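import Cfsg.Agent.Lib.Lie.ThreeCC.Setup

/-!
# The numerical case of three strongly self-centralizing subgroups

The numerical conditions leave sixteen possibilities, all with `z = 1`; each of them has a prime divisor `p` of
`g₀` such that every common divisor of `p - 1` with one of the four numbers is small.
-/

set_option autoImplicit false

namespace Cfsg.Agent.Lie.ThreeCC.Arith

/-- an inverse modulo `N`, by the extended Euclidean algorithm with fuel -/
def inv (N : ℕ) : ℕ → ℕ → ℕ → ℕ → ℕ → ℕ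
  | 0, _, _, s, _ => s
  | f + 1, r, r', s, s' => if r' = 0 then s else inv N f r' (r % r') s' ((s + r / r' * (N - s')) % N)

/-- the prime attached to a solution -/
def wit (g : ℕ) : ℕ :=
  match g with
  | 1136 => 71
  | 5436 => 151
  | 4036 => 1009
  | 3616 => 113
  | 7916 => 1979
  | 6596 => 97
  | 10964 => 2741
  | 12688 => 61
  | _ => 0

theorem wit_prime {g : ℕ} (h : wit g ≠ 0) : (wit g).Prime := by
  have key : ∀ p ∈ ([71, 151, 1009, 113, 1979, 97, 2741, 61] : List ℕ), p.Prime := by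
    simp only [List.mem_cons, List.not_mem_nil, or_false]
    rintro p (rfl | rfl | rfl | rfl | rfl | rfl | rfl | rfl) <;> norm_num
  apply key
  unfold wit at h ⊢
  split <;> simp_all

/-- the check of one triple -/
def Ok (a b c : ℕ) : Bool :=
  let A := 2 * a + 1
  let B := 4 * b + 1
  let C := 4 * c + 1
  let N := A * B * C
  let S := 2 * (B * C) + A * C + A * B
  let h := inv N 40 N (S % N) 0 1
  let g := 4 * h
  19 < a + b + c || Nat.gcd A B != 1 || Nat.gcd A C != 1 || Nat.gcd B C != 1 || Nat.gcd S N != 1 ||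
    (S * h % N == 1 &&
      (List.range 11).all fun j => [1, 2].all fun z =>
        !(decide (z * N < g) && decide (g ≤ 3 * N) && decide (g * (a + b + c) ≤ j ^ 2 * N) &&
          (decide (j ≤ z) || decide ((j - z) ^ 2 * N ≤ (a + b + c + 3) * (g - z * N)))) ||
        (z == 1 && decide (2 < wit g) && g % wit g == 0 &&
          decide (2 * Nat.gcd (wit g - 1) g < wit g - 1) && decide (2 * Nat.gcd (wit g - 1) A < wit g - 1) &&
          decide (2 * Nat.gcd (wit g - 1) B < wit g - 1) && decide (2 * Nat.gcd (wit g - 1) C < wit g - 1)))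

theorem ok_table : ((List.range 16).all fun a => a < 2 || (List.range 16).all fun b => b < 2 ||
    (List.range 16).all fun c => c < 2 || Ok a b c) = true := by
  decide +kernel

theorem ok_all (a : ℕ) (ha : a < 16) (ha' : 2 ≤ a) (b : ℕ) (hb : b < 16) (hb' : 2 ≤ b) (c : ℕ) (hc : c < 16)
    (hc' : 2 ≤ c) : Ok a b c = true := by
  have h := ok_table
  simp only [List.all_eq_true, List.mem_range, Bool.or_eq_true, decide_eq_true_eq] at h
  exact ((((h a ha).resolve_left (by omega)) b hb).resolve_left (by omega) c hc).resolve_left (by omega)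

end Cfsg.Agent.Lie.ThreeCC.Arith

namespace Cfsg.Agent.Lie.ThreeCC

variable {w₁ w₂ w₃ g₀ j z : ℕ}

/-- the parameters are bounded -/
theorem Num.bounded (h : Num w₁ w₂ w₃ g₀ j z) : w₁ + w₂ + w₃ ≤ 19 ∧ j ≤ 10 := by
  have hlo := h.lo
  have hhi := h.hi
  have hp := h.pairs
  have hd := h.degrees
  have hW : 6 ≤ w₁ + w₂ + w₃ := by have := h.hw₁; have := h.hw₂; have := h.hw₃; omega
  generalize hN : (2 * w₁ + 1) * (4 * w₂ + 1) * (4 * w₃ + 1) = N at hlo hhi hp hd
  generalize w₁ + w₂ + w₃ = W at hp hd hW ⊢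
  have hN0 : 0 < N := by rw [← hN]; positivity
  obtain ⟨e, rfl⟩ : ∃ e, g₀ = z * N + e := ⟨g₀ - z * N, by omega⟩
  rw [Nat.add_sub_cancel_left] at hd
  have hjz : z < j := by
    by_contra hle
    push Not at hle
    have h1 : j ^ 2 ≤ z ^ 2 := Nat.pow_le_pow_left hle 2
    have h2 : z * W * N ≤ z ^ 2 * N :=
      calc z * W * N ≤ (z * N + e) * W := by rw [add_mul, mul_right_comm z N W]; exact Nat.le_add_right _ _
        _ ≤ j ^ 2 * N := hp
        _ ≤ z ^ 2 * N := Nat.mul_le_mul_right N h1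
    have h3 := Nat.le_of_mul_le_mul_right h2 hN0
    rcases h.hz with rfl | rfl <;> norm_num at h3 <;> omega
  obtain ⟨m, rfl⟩ : ∃ m, j = z + m := ⟨j - z, by omega⟩
  rw [Nat.add_sub_cancel_left] at hd
  replace hd : m ^ 2 * N ≤ (W + 3) * e := hd.resolve_left (by omega)
  have h2 : z * W * (W + 3) + m ^ 2 * W ≤ (W + 3) * (z + m) ^ 2 := by
    refine Nat.le_of_mul_le_mul_right ?_ hN0
    calc (z * W * (W + 3) + m ^ 2 * W) * N = (W + 3) * (z * N * W) + W * (m ^ 2 * N) := by ring
      _ ≤ (W + 3) * (z * N * W) + W * ((W + 3) * e) := Nat.add_le_add_left (Nat.mul_le_mul_left W hd) _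
      _ = (W + 3) * ((z * N + e) * W) := by ring
      _ ≤ (W + 3) * ((z + m) ^ 2 * N) := Nat.mul_le_mul_left _ hp
      _ = (W + 3) * (z + m) ^ 2 * N := by ring
  have hm : m ^ 2 ≤ (W + 3) * (3 - z) := by
    refine Nat.le_of_mul_le_mul_right (le_trans hd ?_) hN0
    rw [mul_assoc]
    refine Nat.mul_le_mul_left _ ?_
    rcases h.hz with rfl | rfl <;> norm_num <;> omega
  rcases h.hz with rfl | rfl
  · have hW1 : W ≤ 2 * m + 7 := by
      by_contra hlt
      nlinarith
    have hm1 : m ≤ 6 := by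
      by_contra hlt
      nlinarith
    omega
  · have hW1 : W ≤ 2 * m + 3 := by
      by_contra hlt
      nlinarith
    have hm1 : m ≤ 3 := by
      by_contra hlt
      nlinarith
    omega

/-- the numerical case: `z = 1` and a suitable prime divides `g₀` -/
theorem Num.exists_prime (h : Num w₁ w₂ w₃ g₀ j z) :
    z = 1 ∧ ∃ p, p.Prime ∧ 2 < p ∧ p ∣ g₀ ∧
      ∀ d, d ∣ p - 1 → (d ∣ g₀ ∨ d ∣ 2 * w₁ + 1 ∨ d ∣ 4 * w₂ + 1 ∨ d ∣ 4 * w₃ + 1) → 2 * d < p - 1 := by
  obtain ⟨hW, hj⟩ := h.bounded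
  have := h.hw₁
  have := h.hw₂
  have := h.hw₃
  have hok := Arith.ok_all w₁ (by omega) h.hw₁ w₂ (by omega) h.hw₂ w₃ (by omega) h.hw₃
  simp only [Arith.Ok] at hok
  obtain ⟨K, hK⟩ := h.count
  obtain ⟨t, rfl⟩ := h.four
  have hlo := h.lo
  have hhi := h.hi
  have hp := h.pairs
  have hd := h.degrees
  have hN1 : 1 < (2 * w₁ + 1) * (4 * w₂ + 1) * (4 * w₃ + 1) :=
    lt_of_lt_of_le (by norm_num : 1 < 5 * 9 * 9) (Nat.mul_le_mul (Nat.mul_le_mul (by omega) (by omega)) (by omega))
  generalize hN : (2 * w₁ + 1) * (4 * w₂ + 1) * (4 * w₃ + 1) = N at *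
  generalize hS : 2 * ((4 * w₂ + 1) * (4 * w₃ + 1)) + (2 * w₁ + 1) * (4 * w₃ + 1) +
    (2 * w₁ + 1) * (4 * w₂ + 1) = S at *
  generalize hh : Arith.inv N 40 N (S % N) 0 1 = i at *
  have hts : t * S = K * N + 1 := by
    have : 4 * (t * S) = 4 * (K * N + 1) := by rw [← mul_assoc]; exact hK
    omega
  have hg : Nat.gcd S N = 1 := by
    have h1 : Nat.gcd S N ∣ t * S := dvd_mul_of_dvd_right (Nat.gcd_dvd_left S N) t
    have h2 : Nat.gcd S N ∣ K * N := dvd_mul_of_dvd_right (Nat.gcd_dvd_right S N) K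
    exact Nat.dvd_one.1 ((Nat.dvd_add_right h2).1 (hts ▸ h1))
  have hc1 : Nat.gcd (2 * w₁ + 1) (4 * w₂ + 1) = 1 := h.cop₁₂
  have hc2 : Nat.gcd (2 * w₁ + 1) (4 * w₃ + 1) = 1 := h.cop₁₃
  have hc3 : Nat.gcd (4 * w₂ + 1) (4 * w₃ + 1) = 1 := h.cop₂₃
  simp only [hg, hc1, hc2, hc3, bne_self_eq_false, Bool.or_false, Bool.or_eq_true, decide_eq_true_eq,
    Bool.and_eq_true, beq_iff_eq, List.all_eq_true, List.mem_range] at hok
  rcases hok with hbad | ⟨hinv, hall⟩
  · omega
  have hti : t = i % N := by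
    have h1 : (t * (S * i)) % N = t % N := by rw [Nat.mul_mod, hinv, mul_one, Nat.mod_mod]
    rw [← mul_assoc, hts, add_mul, one_mul, mul_right_comm, Nat.mul_add_mod_self_right] at h1
    rw [h1, Nat.mod_eq_of_lt (by omega)]
  have hiN : i < N := by
    rw [← hh]
    have key : ∀ f r r' s s', s < N → s' < N → Arith.inv N f r r' s s' < N := by
      intro f
      induction f with
      | zero => intro r r' s s' hs _; exact hs
      | succ f ih =>
        intro r r' s s' hs hs'
        simp only [Arith.inv]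
        split
        · exact hs
        · exact ih _ _ _ _ hs' (Nat.mod_lt _ (by omega))
    exact key _ _ _ _ _ (by omega) hN1
  rw [Nat.mod_eq_of_lt hiN] at hti
  subst hti
  have h0 := hall j (by omega) z (by rcases h.hz with e | e <;> simp [e])
  simp only [Bool.or_eq_true, Bool.not_eq_true', Bool.and_eq_true, decide_eq_true_eq, decide_eq_false_iff_not,
    beq_iff_eq, Bool.and_eq_false_iff, Bool.or_eq_false_iff] at h0
  rcases h0 with hno | ⟨⟨⟨⟨⟨⟨hz, hp2⟩, hpd⟩, hg1⟩, hg2⟩, hg3⟩, hg4⟩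
  · rcases hno with ((h1 | h1) | h1) | ⟨h1, h2⟩
    · exact absurd hlo h1
    · exact absurd hhi h1
    · exact absurd hp h1
    · rcases hd with hd | hd
      · exact absurd hd h1
      · exact absurd hd h2
  refine ⟨hz, Arith.wit (4 * t), Arith.wit_prime (by omega), hp2, Nat.dvd_of_mod_eq_zero hpd, fun d hd1 hd2 => ?_⟩
  have hpos : 0 < Arith.wit (4 * t) - 1 := by omega
  have key : ∀ X, d ∣ X → 2 * Nat.gcd (Arith.wit (4 * t) - 1) X < Arith.wit (4 * t) - 1 →
      2 * d < Arith.wit (4 * t) - 1 := fun X hX hlt => by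
    have := Nat.le_of_dvd (Nat.gcd_pos_of_pos_left _ hpos) (Nat.dvd_gcd hd1 hX)
    omega
  rcases hd2 with e | e | e | e
  exacts [key _ e hg1, key _ e hg2, key _ e hg3, key _ e hg4]

end Cfsg.Agent.Lie.ThreeCC
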