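import Mathlib

/-!
# At most three non-exceptional characters are non-zero on the three subgroups

The inequalities are the second orthogonality relations of the columns, in integers.
-/

set_option autoImplicit false

namespace Cfsg.Agent.Lie.ThreeCC

variable {ι : Type*} [DecidableEq ι]

/-- The non-zero places of an integer vector are bounded by its norm. -/
theorem card_support_le (T : Finset ι) (b : ι → ℤ) :
    ((T.filter fun χ => b χ ≠ 0).card : ℤ) ≤ ∑ χ ∈ T, b χ ^ 2 := by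
  rw [← Finset.sum_filter_add_sum_filter_not T (fun χ => b χ ≠ 0) (fun χ => b χ ^ 2)]
  have h1 : ((T.filter fun χ => b χ ≠ 0).card : ℤ) ≤ ∑ χ ∈ T.filter (fun χ => b χ ≠ 0), b χ ^ 2 := by
    have := Finset.sum_le_sum (s := T.filter fun χ => b χ ≠ 0) (f := fun _ => (1 : ℤ))
      (g := fun χ => b χ ^ 2) fun χ hχ => by
        have h0 : b χ ≠ 0 := (Finset.mem_filter.1 hχ).2
        have := sq_pos_of_ne_zero h0
        linarith
    simpa using this
  have h2 : 0 ≤ ∑ χ ∈ T.filter (fun χ => ¬ b χ ≠ 0), b χ ^ 2 := Finset.sum_nonneg fun _ _ => sq_nonneg _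
  linarith

/-- A column meeting the first one in a member, or in an exceptional character, has few others. -/
theorem card_erase_le (T : Finset ι) (b : ι → ℤ) (s : ι) (hs : s ∈ T) {a σ u r : ℤ}
    (heq : 1 + a * b s + σ * u = 0) (hr : 0 ≤ r) (hq : ∑ χ ∈ T, b χ ^ 2 + (2 * u ^ 2 + r) ≤ 3) :
    ((T.erase s).filter fun χ => b χ ≠ 0).card ≤ 2 ∧
      (2 ≤ ((T.erase s).filter fun χ => b χ ≠ 0).card →
        u = 0 ∧ r = 0 ∧ a * b s = -1 ∧ b s ^ 2 = 1 ∧ ∑ χ ∈ T.erase s, b χ ^ 2 = 2) := by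
  rw [← Finset.add_sum_erase _ _ hs] at hq
  have hc := card_support_le (T.erase s) b
  have h0 := sq_nonneg (b s)
  have h1 := sq_nonneg u
  by_cases hu : u = 0
  · subst hu
    have hab : a * b s = -1 := by linarith
    have hb : b s ≠ 0 := fun e => by rw [e, mul_zero] at hab; exact absurd hab (by norm_num)
    have := sq_pos_of_ne_zero hb
    refine ⟨by omega, fun h2 => ⟨rfl, by omega, hab, by omega, by omega⟩⟩
  · have := sq_pos_of_ne_zero hu
    exact ⟨by omega, fun h2 => by omega⟩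

/-- The support of the second and third column outside the one member of the first. -/
theorem card_union_le (T : Finset ι) (a b c : ι → ℤ) (s : ι) (hs : s ∈ T) (w₁ w₂ w₃ : ℕ)
    (σ₁ σ₂ σ₃ u21 u23 u31 u32 : ℤ) (hw₁ : 2 ≤ w₁) (hw₂ : 2 ≤ w₂) (hw₃ : 2 ≤ w₃)
    (ha : a s ^ 2 = 1)
    (hq2 : ∑ χ ∈ T, b χ ^ 2 + w₁ * u21 ^ 2 + w₃ * u23 ^ 2 ≤ 3)
    (hq3 : ∑ χ ∈ T, c χ ^ 2 + w₁ * u31 ^ 2 + w₂ * u32 ^ 2 ≤ 3)
    (h12 : 1 + a s * b s + σ₁ * u21 = 0) (h13 : 1 + a s * c s + σ₁ * u31 = 0)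
    (h23 : 1 + ∑ χ ∈ T, b χ * c χ + w₁ * (u21 * u31) + σ₂ * u32 + σ₃ * u23 = 0)
    (hb2 : 2 ≤ ((T.erase s).filter fun χ => b χ ≠ 0).card) :
    (((T.erase s).filter fun χ => b χ ≠ 0) ∪ ((T.erase s).filter fun χ => c χ ≠ 0)).card ≤ 2 := by
  have e1 : (2 : ℤ) * u21 ^ 2 ≤ w₁ * u21 ^ 2 := mul_le_mul_of_nonneg_right (by exact_mod_cast hw₁) (sq_nonneg _)
  have e2 : (2 : ℤ) * u31 ^ 2 ≤ w₁ * u31 ^ 2 := mul_le_mul_of_nonneg_right (by exact_mod_cast hw₁) (sq_nonneg _)
  have e3 : (2 : ℤ) * u23 ^ 2 ≤ w₃ * u23 ^ 2 := mul_le_mul_of_nonneg_right (by exact_mod_cast hw₃) (sq_nonneg _)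
  have e4 : (2 : ℤ) * u32 ^ 2 ≤ w₂ * u32 ^ 2 := mul_le_mul_of_nonneg_right (by exact_mod_cast hw₂) (sq_nonneg _)
  obtain ⟨hP2, hPd⟩ := card_erase_le T b s hs (r := 2 * u23 ^ 2) h12 (by positivity) (by linarith)
  obtain ⟨hu21, hu23', hab, hbs, hbsum⟩ := hPd hb2
  have hu23 : u23 = 0 := by
    by_contra h
    have := sq_pos_of_ne_zero h
    omega
  obtain ⟨hQ2, hQd⟩ := card_erase_le T c s hs (r := 2 * u32 ^ 2) h13 (by positivity) (by linarith)
  set P := (T.erase s).filter fun χ => b χ ≠ 0 with hP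
  set Q := (T.erase s).filter fun χ => c χ ≠ 0 with hQ
  -- the values of the second column are signs
  have hbone : ∀ χ ∈ P, b χ ^ 2 = 1 := by
    intro χ hχ
    have h1 : ∑ ψ ∈ P, b ψ ^ 2 = ∑ ψ ∈ T.erase s, b ψ ^ 2 :=
      Finset.sum_subset (Finset.filter_subset _ _) fun ψ hψ hψ' => by
        have : b ψ = 0 := by
          by_contra hne
          exact hψ' (Finset.mem_filter.2 ⟨hψ, hne⟩)
        rw [this]; rfl
    have h2 := Finset.sum_sdiff (f := fun ψ => b ψ ^ 2) (Finset.singleton_subset_iff.2 hχ)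
    rw [Finset.sum_singleton] at h2
    have h3 : (((P \ {χ}).card : ℕ) : ℤ) ≤ ∑ ψ ∈ P \ {χ}, b ψ ^ 2 := by
      have := Finset.sum_le_sum (s := P \ {χ}) (f := fun _ => (1 : ℤ)) (g := fun ψ => b ψ ^ 2)
        fun ψ hψ => by
          have := sq_pos_of_ne_zero (Finset.mem_filter.1 (Finset.mem_sdiff.1 hψ).1).2
          linarith
      simpa using this
    have h4 : (P \ {χ}).card + 1 = P.card := by
      have := Finset.card_sdiff_of_subset (Finset.singleton_subset_iff.2 hχ)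
      have := Finset.card_pos.2 ⟨χ, hχ⟩
      rw [Finset.card_singleton] at *
      omega
    have h5 := sq_pos_of_ne_zero (Finset.mem_filter.1 hχ).2
    omega
  by_contra hbig
  rw [not_le] at hbig
  have hcu := Finset.card_union_add_card_inter P Q
  -- the product of the two columns
  have hsum : ∑ χ ∈ T, b χ * c χ = b s * c s + ∑ χ ∈ P ∩ Q, b χ * c χ := by
    rw [← Finset.add_sum_erase _ _ hs]
    congr 1
    refine (Finset.sum_subset (Finset.inter_subset_left.trans (Finset.filter_subset _ _)) fun χ hχ hn => ?_).symm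
    by_contra hne
    exact hn (Finset.mem_inter.2 ⟨Finset.mem_filter.2 ⟨hχ, left_ne_zero_of_mul hne⟩,
      Finset.mem_filter.2 ⟨hχ, right_ne_zero_of_mul hne⟩⟩)
  rw [hsum, hu21, hu23] at h23
  by_cases hQc : 2 ≤ Q.card
  · obtain ⟨hu31, hu32', hac, hcs, hcsum⟩ := hQd hQc
    have hu32 : u32 = 0 := by
      by_contra h
      have := sq_pos_of_ne_zero h
      omega
    have hbc : b s * c s = 1 := by linear_combination (a s * c s) * hab - hac - (b s * c s) * ha
    have hI : (P ∩ Q).card ≤ 1 := by omega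
    rw [hbc, hu32] at h23
    rcases Nat.le_one_iff_eq_zero_or_eq_one.1 hI with h | h
    · rw [Finset.card_eq_zero.1 h, Finset.sum_empty] at h23
      simp at h23
    · obtain ⟨χ, hχ⟩ := Finset.card_eq_one.1 h
      rw [hχ, Finset.sum_singleton] at h23
      have hm : χ ∈ P ∧ χ ∈ Q := Finset.mem_inter.1 (hχ ▸ Finset.mem_singleton_self χ)
      have h1 : c χ ^ 2 ≤ 1 := by
        have h2 : c χ ^ 2 + ∑ ψ ∈ (T.erase s).erase χ, c ψ ^ 2 = ∑ ψ ∈ T.erase s, c ψ ^ 2 :=
          Finset.add_sum_erase _ (fun ψ => c ψ ^ 2) (Finset.mem_filter.1 hm.2).1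
        have h3 := card_support_le ((T.erase s).erase χ) c
        have h4 : (((T.erase s).erase χ).filter fun ψ => c ψ ≠ 0) = Q.erase χ := by
          rw [Finset.filter_erase]
        rw [h4, Finset.card_erase_of_mem hm.2] at h3
        omega
      have h6 : (b χ * c χ) ^ 2 ≤ 1 := by rw [mul_pow, hbone χ hm.1, one_mul]; exact h1
      have : b χ * c χ = -2 := by linarith
      rw [this] at h6
      norm_num at h6
  · have hQ1 : Q.card = 1 := by omega
    have hI : (P ∩ Q).card = 0 := by omega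
    rw [Finset.card_eq_zero.1 hI, Finset.sum_empty] at h23
    have hc := card_support_le (T.erase s) c
    rw [← hQ] at hc
    rw [← Finset.add_sum_erase _ _ hs] at hq3
    have := sq_nonneg (c s)
    have := sq_nonneg u31
    have := sq_nonneg u32
    have hu32 : u32 = 0 := by
      by_contra hne
      have := sq_pos_of_ne_zero hne
      have hcs : c s = 0 := by
        by_contra h
        have := sq_pos_of_ne_zero h
        omega
      have hu31 : u31 = 0 := by
        by_contra h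
        have := sq_pos_of_ne_zero h
        omega
      rw [hcs, hu31] at h13
      simp at h13
    rw [hu32] at h23
    have hbc : b s * c s = -1 := by linarith
    have hac : a s * c s = 1 := by linear_combination (-(a s * c s)) * hbs + (b s * c s) * hab - hbc
    rw [hac] at h13
    have hu31 : u31 ≠ 0 := fun e => by rw [e] at h13; simp at h13
    have := sq_pos_of_ne_zero hu31
    have hcs : c s ≠ 0 := right_ne_zero_of_mul (hbc.symm ▸ (by norm_num : (-1 : ℤ) ≠ 0))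
    have := sq_pos_of_ne_zero hcs
    omega

/-- At most three places carry a non-zero value. -/
theorem budget (T : Finset ι) (a b c : ι → ℤ) (w₁ w₂ w₃ : ℕ) (σ₁ σ₂ σ₃ u12 u13 u21 u23 u31 u32 : ℤ)
    (hw₁ : 2 ≤ w₁) (hw₂ : 2 ≤ w₂) (hw₃ : 2 ≤ w₃)
    (hT : ∀ χ ∈ T, a χ ≠ 0 ∨ b χ ≠ 0 ∨ c χ ≠ 0)
    (hq1 : ∑ χ ∈ T, a χ ^ 2 + w₂ * u12 ^ 2 + w₃ * u13 ^ 2 ≤ 1)
    (hq2 : ∑ χ ∈ T, b χ ^ 2 + w₁ * u21 ^ 2 + w₃ * u23 ^ 2 ≤ 3)
    (hq3 : ∑ χ ∈ T, c χ ^ 2 + w₁ * u31 ^ 2 + w₂ * u32 ^ 2 ≤ 3)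
    (h12 : 1 + ∑ χ ∈ T, a χ * b χ + σ₁ * u21 + σ₂ * u12 + w₃ * (u13 * u23) = 0)
    (h13 : 1 + ∑ χ ∈ T, a χ * c χ + σ₁ * u31 + σ₃ * u13 + w₂ * (u12 * u32) = 0)
    (h23 : 1 + ∑ χ ∈ T, b χ * c χ + w₁ * (u21 * u31) + σ₂ * u32 + σ₃ * u23 = 0) :
    T.card ≤ 3 := by
  have e1 : (2 : ℤ) * u12 ^ 2 ≤ w₂ * u12 ^ 2 := mul_le_mul_of_nonneg_right (by exact_mod_cast hw₂) (sq_nonneg _)
  have e1' : (2 : ℤ) * u13 ^ 2 ≤ w₃ * u13 ^ 2 := mul_le_mul_of_nonneg_right (by exact_mod_cast hw₃) (sq_nonneg _)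
  have e2 : (2 : ℤ) * u21 ^ 2 ≤ w₁ * u21 ^ 2 := mul_le_mul_of_nonneg_right (by exact_mod_cast hw₁) (sq_nonneg _)
  have e2' : (2 : ℤ) * u23 ^ 2 ≤ w₃ * u23 ^ 2 := mul_le_mul_of_nonneg_right (by exact_mod_cast hw₃) (sq_nonneg _)
  have e3 : (2 : ℤ) * u31 ^ 2 ≤ w₁ * u31 ^ 2 := mul_le_mul_of_nonneg_right (by exact_mod_cast hw₁) (sq_nonneg _)
  have e3' : (2 : ℤ) * u32 ^ 2 ≤ w₂ * u32 ^ 2 := mul_le_mul_of_nonneg_right (by exact_mod_cast hw₂) (sq_nonneg _)
  have ha0 : 0 ≤ ∑ χ ∈ T, a χ ^ 2 := Finset.sum_nonneg fun _ _ => sq_nonneg _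
  have := sq_nonneg u12
  have := sq_nonneg u13
  have := sq_nonneg u23
  have := sq_nonneg u32
  have hu12 : u12 = 0 := by
    by_contra h
    have := sq_pos_of_ne_zero h
    omega
  have hu13 : u13 = 0 := by
    by_contra h
    have := sq_pos_of_ne_zero h
    omega
  rw [hu12, hu13] at h12 h13 hq1
  have hA := card_support_le T a
  by_cases hs : ∃ s ∈ T, a s ≠ 0
  · obtain ⟨s, hsT, hs⟩ := hs
    have hsA : s ∈ T.filter fun χ => a χ ≠ 0 := Finset.mem_filter.2 ⟨hsT, hs⟩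
    have hone : ∀ χ ∈ T, χ ≠ s → a χ = 0 := by
      intro χ hχ hne
      by_contra h
      have h2 : 2 ≤ (T.filter fun χ => a χ ≠ 0).card :=
        (Finset.card_pair hne).symm.trans_le (Finset.card_le_card (by
          intro x hx
          rcases Finset.mem_insert.1 hx with rfl | hx
          · exact Finset.mem_filter.2 ⟨hχ, h⟩
          · rw [Finset.mem_singleton.1 hx]; exact hsA))
      omega
    have has : a s ^ 2 = 1 := by
      have h := Finset.add_sum_erase T (fun χ => a χ ^ 2) hsT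
      have h0 : ∑ χ ∈ T.erase s, a χ ^ 2 = 0 := Finset.sum_eq_zero fun χ hχ => by
        rw [hone χ (Finset.mem_of_mem_erase hχ) (Finset.ne_of_mem_erase hχ)]; rfl
      have := sq_pos_of_ne_zero hs
      omega
    have hsum : ∀ f : ι → ℤ, ∑ χ ∈ T, a χ * f χ = a s * f s := fun f =>
      Finset.sum_eq_single s (fun χ hχ hne => by rw [hone χ hχ hne, zero_mul]) (fun h => absurd hsT h)
    rw [hsum] at h12 h13
    have h12' : 1 + a s * b s + σ₁ * u21 = 0 := by linarith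
    have h13' : 1 + a s * c s + σ₁ * u31 = 0 := by linarith
    set P := (T.erase s).filter fun χ => b χ ≠ 0 with hP
    set Q := (T.erase s).filter fun χ => c χ ≠ 0 with hQ
    have hsub : T.erase s ⊆ P ∪ Q := by
      intro χ hχ
      rcases hT χ (Finset.mem_of_mem_erase hχ) with h | h | h
      · exact absurd (hone χ (Finset.mem_of_mem_erase hχ) (Finset.ne_of_mem_erase hχ)) h
      · exact Finset.mem_union_left _ (Finset.mem_filter.2 ⟨hχ, h⟩)
      · exact Finset.mem_union_right _ (Finset.mem_filter.2 ⟨hχ, h⟩)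
    have hcard := Finset.card_le_card hsub
    rw [Finset.card_erase_of_mem hsT] at hcard
    by_cases hP2 : 2 ≤ P.card
    · have := card_union_le T a b c s hsT w₁ w₂ w₃ σ₁ σ₂ σ₃ u21 u23 u31 u32 hw₁ hw₂ hw₃ has hq2 hq3 h12' h13' h23 hP2
      rw [← hP, ← hQ] at this
      omega
    by_cases hQ2 : 2 ≤ Q.card
    · have := card_union_le T a c b s hsT w₁ w₃ w₂ σ₁ σ₃ σ₂ u31 u32 u21 u23 hw₁ hw₃ hw₂ has hq3 hq2 h13' h12' (by
        rw [Finset.sum_congr rfl fun χ _ => mul_comm (c χ) (b χ)]; linarith) hQ2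
      rw [← hP, ← hQ, Finset.union_comm] at this
      omega
    have := Finset.card_union_le P Q
    omega
  · push Not at hs
    have hz : ∀ f : ι → ℤ, ∑ χ ∈ T, a χ * f χ = 0 := fun f =>
      Finset.sum_eq_zero fun χ hχ => by rw [hs χ hχ, zero_mul]
    rw [hz] at h12 h13
    have hu21 : u21 ≠ 0 := fun e => by rw [e] at h12; simp at h12
    have hu31 : u31 ≠ 0 := fun e => by rw [e] at h13; simp at h13
    have := sq_pos_of_ne_zero hu21
    have := sq_pos_of_ne_zero hu31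
    have hsub : T ⊆ (T.filter fun χ => b χ ≠ 0) ∪ (T.filter fun χ => c χ ≠ 0) := by
      intro χ hχ
      rcases hT χ hχ with h | h | h
      · exact absurd (hs χ hχ) h
      · exact Finset.mem_union_left _ (Finset.mem_filter.2 ⟨hχ, h⟩)
      · exact Finset.mem_union_right _ (Finset.mem_filter.2 ⟨hχ, h⟩)
    have := (Finset.card_le_card hsub).trans (Finset.card_union_le _ _)
    have := card_support_le T b
    have := card_support_le T c
    omega

end Cfsg.Agent.Lie.ThreeCC
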