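import Cfsg.Agent.Lib.Lie.ThreeCC.Frame
import Cfsg.Agent.Lib.Char.Central

/-!
# The class equation for three strongly self-centralizing subgroups
-/

set_option autoImplicit false
set_option linter.unusedSectionVars false
set_option linter.style.haveILetI false

namespace Cfsg.Agent.Lie.ThreeCC

open Subgroup

universe u

variable {G : Type u} [Group G] {A B A₁ A₂ A₃ : Subgroup G} {e f : ℕ}

/-- The non-identity elements with a conjugate in `A`. -/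
def Meet (A : Subgroup G) : Set G := {x | x ≠ 1 ∧ ∃ g : G, g * x * g⁻¹ ∈ A}

/-- The elements outside all conjugates of the three subgroups. -/
def Outside (A₁ A₂ A₃ : Subgroup G) (x : G) : Prop :=
  x ≠ 1 ∧ ∀ g : G, g * x * g⁻¹ ∉ A₁ ∧ g * x * g⁻¹ ∉ A₂ ∧ g * x * g⁻¹ ∉ A₃

/-- The classes of outside elements. -/
abbrev OutClass (A₁ A₂ A₃ : Subgroup G) : Type u :=
  {C : ConjClasses G // ∃ x ∈ C.carrier, Outside A₁ A₂ A₃ x}

theorem Outside.conj {x : G} (hx : Outside A₁ A₂ A₃ x) (k : G) :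
    Outside A₁ A₂ A₃ (k * x * k⁻¹) := by
  refine ⟨fun h => hx.1 (conj_eq_one_iff.1 h), fun g => ?_⟩
  rw [show g * (k * x * k⁻¹) * g⁻¹ = g * k * x * (g * k)⁻¹ by group]
  exact hx.2 (g * k)

theorem disjoint_meet (h : (Nat.card A).Coprime (Nat.card B)) : Disjoint (Meet A) (Meet B) := by
  rw [Set.disjoint_left]
  rintro x ⟨hx1, g, hg⟩ ⟨-, k, hk⟩
  have h1 := A.orderOf_dvd_natCard hg
  have h2 := B.orderOf_dvd_natCard hk
  rw [show g * x * g⁻¹ = MulAut.conj g x from rfl, MulEquiv.orderOf_eq] at h1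
  rw [show k * x * k⁻¹ = MulAut.conj k x from rfl, MulEquiv.orderOf_eq] at h2
  exact hx1 (orderOf_eq_one_iff.1 (Nat.eq_one_of_dvd_coprimes h h1 h2))

theorem disjoint_image_mk {S T : Set G} (h : Disjoint S T)
    (hT : ∀ x ∈ T, ∀ k : G, k * x * k⁻¹ ∈ T) :
    Disjoint (ConjClasses.mk '' S) (ConjClasses.mk '' T) := by
  rw [Set.disjoint_left]
  rintro _ ⟨x, hx, rfl⟩ ⟨y, hy, hyx⟩
  obtain ⟨k, hk⟩ := isConj_iff.1 (ConjClasses.mk_eq_mk_iff_isConj.1 hyx)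
  exact Set.disjoint_left.1 h hx (hk ▸ hT y hy k)

theorem meet_conj (x : G) (hx : x ∈ Meet A) (k : G) : k * x * k⁻¹ ∈ Meet A := by
  obtain ⟨h1, g, hg⟩ := hx
  exact ⟨fun h => h1 (conj_eq_one_iff.1 h), g * k⁻¹, by
    rwa [show g * k⁻¹ * (k * x * k⁻¹) * (g * k⁻¹)⁻¹ = g * x * g⁻¹ by group]⟩

variable [Finite G]

/-- A conjugation invariant set whose classes have size divisible by `n`. -/
theorem dvd_ncard_invariant (n : ℕ) (S : Set G) (hS : ∀ x ∈ S, ∀ k : G, k * x * k⁻¹ ∈ S)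
    (hn : ∀ x ∈ S, n ∣ Nat.card {y : G // IsConj x y}) : n ∣ S.ncard := by
  classical
  haveI := Fintype.ofFinite G
  rw [Set.ncard_eq_toFinset_card', Finset.card_eq_sum_card_image ConjClasses.mk]
  refine Finset.dvd_sum fun C hC => ?_
  obtain ⟨x, hx, rfl⟩ := Finset.mem_image.1 hC
  rw [Set.mem_toFinset] at hx
  refine (hn x hx).trans (dvd_of_eq ?_)
  rw [Nat.card_eq_fintype_card, Fintype.card_subtype]
  refine congrArg Finset.card (Finset.ext fun y => ?_)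
  simp only [Finset.mem_filter, Finset.mem_univ, true_and, Set.mem_toFinset,
    ConjClasses.mk_eq_mk_iff_isConj]
  constructor
  · intro hxy
    obtain ⟨k, hk⟩ := isConj_iff.1 hxy
    exact ⟨hk ▸ hS x hx k, hxy.symm⟩
  · exact fun h => h.2.symm

/-- Outside `A`, classes have size divisible by the order of `A`. -/
theorem CCSub.dvd_card_class (h : CCSub A e) {x : G} (hx : ∀ g : G, g * x * g⁻¹ ∉ A) :
    Nat.card A ∣ Nat.card {y : G // IsConj x y} := by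
  refine (h.coprime_centralizer hx).symm.dvd_of_dvd_mul_right ?_
  rw [Char.card_conjClass_mul_centralizer]
  exact A.card_subgroup_dvd_card

theorem CCSub.ncard_meet (h : CCSub A e) :
    (Meet A).ncard = (normalizer (A : Set G)).index * Nat.card (Sharp A) := by
  rw [Subgroup.index, ← Nat.card_prod, ← Nat.card_coe_set_eq]
  symm
  refine Nat.card_eq_of_bijective (fun qa => ⟨qa.1.out * qa.2.1 * qa.1.out⁻¹, ?_, qa.1.out⁻¹, ?_⟩) ⟨?_, ?_⟩
  · exact fun e1 => qa.2.2.2 (conj_eq_one_iff.1 e1)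
  · rw [show qa.1.out⁻¹ * (qa.1.out * qa.2.1 * qa.1.out⁻¹) * qa.1.out⁻¹⁻¹ = qa.2.1 by group]
    exact qa.2.2.1
  · rintro ⟨q, a⟩ ⟨r, b⟩ hqr
    have h1 : q.out * a.1 * q.out⁻¹ = r.out * b.1 * r.out⁻¹ := congrArg Subtype.val hqr
    have h2 : (r.out⁻¹ * q.out) * a.1 * (r.out⁻¹ * q.out)⁻¹ = b.1 := by
      calc (r.out⁻¹ * q.out) * a.1 * (r.out⁻¹ * q.out)⁻¹ = r.out⁻¹ * (q.out * a.1 * q.out⁻¹) * r.out := by group
        _ = b.1 := by rw [h1]; group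
    have h3 := h.mem_normalizer a.2.1 a.2.2 (h2 ▸ b.2.1)
    obtain rfl : q = r := by
      have h4 : (QuotientGroup.mk r.out : G ⧸ normalizer (A : Set G)) = QuotientGroup.mk q.out :=
        QuotientGroup.eq.2 h3
      rwa [QuotientGroup.out_eq', QuotientGroup.out_eq', eq_comm] at h4
    exact Prod.ext rfl (Subtype.ext (mul_left_cancel (mul_right_cancel h1)))
  · rintro ⟨x, hx1, g, hg⟩
    set q : G ⧸ normalizer (A : Set G) := QuotientGroup.mk g⁻¹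
    obtain ⟨m, hm⟩ : ∃ m ∈ normalizer (A : Set G), g⁻¹ = q.out * m :=
      ⟨q.out⁻¹ * g⁻¹, QuotientGroup.eq.1 (QuotientGroup.out_eq' q), (mul_inv_cancel_left _ _).symm⟩
    obtain ⟨hm, hgm⟩ := hm
    refine ⟨(q, ⟨m * (g * x * g⁻¹) * m⁻¹, (Subgroup.mem_normalizer_iff.1 hm _).1 hg,
      fun e1 => hx1 (conj_eq_one_iff.1 (conj_eq_one_iff.1 e1))⟩), Subtype.ext ?_⟩
    show q.out * (m * (g * x * g⁻¹) * m⁻¹) * q.out⁻¹ = x
    calc q.out * (m * (g * x * g⁻¹) * m⁻¹) * q.out⁻¹ = (q.out * m) * (g * x * g⁻¹) * (q.out * m)⁻¹ := by group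
      _ = x := by rw [← hgm]; group

theorem CCSub.ncard_meet_mul (h : CCSub A e) {w : ℕ} (he : 0 < e) (hw : Nat.card A = e * w + 1) :
    (Meet A).ncard * Nat.card A = Nat.card G * w := by
  have hs : Nat.card (Sharp A) = e * w := by
    have := card_sharp A
    omega
  rw [h.ncard_meet, hs, ← (normalizer (A : Set G)).index_mul_card, h.card_normalizer]
  ring

theorem CCSub.ncard_class_meet (h : CCSub A e) {w : ℕ} (he : 0 < e) (hw : Nat.card A = e * w + 1) :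
    (ConjClasses.mk '' Meet A).ncard = w := by
  have h1 := h.orbits_mul
  rw [hw, add_left_inj, mul_comm e w] at h1
  rw [← Nat.card_coe_set_eq, ← Nat.eq_of_mul_eq_mul_right he h1]
  symm
  refine Nat.card_eq_of_bijective
    (Quotient.lift (fun a : Sharp A => (⟨ConjClasses.mk a.1, a.1, ⟨a.2.2, 1, by simpa using a.2.1⟩, rfl⟩ :
      (ConjClasses.mk '' Meet A : Set (ConjClasses G)))) ?_) ⟨?_, ?_⟩
  · intro a b hab
    obtain ⟨n, hn⟩ := (MulAction.orbitRel_apply.1 hab)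
    refine Subtype.ext (ConjClasses.mk_eq_mk_iff_isConj.2 ?_)
    rw [← hn]
    exact (isConj_iff.2 ⟨(n : G), (sharp_smul_val A n b).symm⟩).symm
  · intro qa qb
    induction qa using Quotient.inductionOn with
    | h a =>
    induction qb using Quotient.inductionOn with
    | h b =>
    intro hab
    obtain ⟨g, hg⟩ := isConj_iff.1 (ConjClasses.mk_eq_mk_iff_isConj.1 (congrArg Subtype.val hab))
    exact (Quotient.sound (MulAction.orbitRel_apply.2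
      ⟨⟨g, h.mem_normalizer a.2.1 a.2.2 (hg ▸ b.2.1)⟩, Subtype.ext hg⟩)).symm
  · rintro ⟨_, x, ⟨hx1, g, hg⟩, rfl⟩
    refine ⟨Quotient.mk (MulAction.orbitRel (normalizer (A : Set G)) (Sharp A)) ⟨g * x * g⁻¹, hg, fun e1 => hx1 (conj_eq_one_iff.1 e1)⟩, Subtype.ext ?_⟩
    show ConjClasses.mk (g * x * g⁻¹) = ConjClasses.mk x
    exact ConjClasses.mk_eq_mk_iff_isConj.2 (isConj_iff.2 ⟨g, rfl⟩).symm

theorem univ_eq_union :
    (Set.univ : Set G) = insert 1 (Meet A₁ ∪ Meet A₂ ∪ Meet A₃ ∪ {x | Outside A₁ A₂ A₃ x}) := by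
  refine (Set.eq_univ_of_forall fun x => ?_).symm
  by_cases hx : x = 1
  · exact Or.inl hx
  refine Or.inr ?_
  by_cases h1 : ∃ g : G, g * x * g⁻¹ ∈ A₁
  · exact Or.inl (Or.inl (Or.inl ⟨hx, h1⟩))
  by_cases h2 : ∃ g : G, g * x * g⁻¹ ∈ A₂
  · exact Or.inl (Or.inl (Or.inr ⟨hx, h2⟩))
  by_cases h3 : ∃ g : G, g * x * g⁻¹ ∈ A₃
  · exact Or.inl (Or.inr ⟨hx, h3⟩)
  exact Or.inr ⟨hx, fun g => ⟨fun h => h1 ⟨g, h⟩, fun h => h2 ⟨g, h⟩, fun h => h3 ⟨g, h⟩⟩⟩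

theorem disjoint_meet_outside : Disjoint (Meet A₁ ∪ Meet A₂ ∪ Meet A₃) {x | Outside A₁ A₂ A₃ x} := by
  rw [Set.disjoint_left]
  rintro x ((⟨-, g, hg⟩ | ⟨-, g, hg⟩) | ⟨-, g, hg⟩) ⟨-, ho⟩
  exacts [(ho g).1 hg, (ho g).2.1 hg, (ho g).2.2 hg]

theorem union_conj (x : G) (hx : x ∈ Meet A₁ ∪ Meet A₂) (k : G) : k * x * k⁻¹ ∈ Meet A₁ ∪ Meet A₂ :=
  hx.imp (fun h => meet_conj x h k) fun h => meet_conj x h k

theorem Hyp.dvd_card_G (H : Hyp A₁ A₂ A₃) :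
    Nat.card A₁ * Nat.card A₂ * Nat.card A₃ ∣ Nat.card G :=
  Nat.Coprime.mul_dvd_of_dvd_of_dvd (Nat.Coprime.mul_left H.cop₁₃ H.cop₂₃)
    (H.cop₁₂.mul_dvd_of_dvd_of_dvd A₁.card_subgroup_dvd_card A₂.card_subgroup_dvd_card)
    A₃.card_subgroup_dvd_card

/-- An invariant set of outside elements has size divisible by the product of the three orders. -/
theorem Hyp.dvd_ncard_outside (H : Hyp A₁ A₂ A₃) (S : Set G)
    (hS : ∀ x ∈ S, ∀ k : G, k * x * k⁻¹ ∈ S) (ho : ∀ x ∈ S, Outside A₁ A₂ A₃ x) :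
    Nat.card A₁ * Nat.card A₂ * Nat.card A₃ ∣ S.ncard := by
  refine dvd_ncard_invariant _ S hS fun x hx => ?_
  exact Nat.Coprime.mul_dvd_of_dvd_of_dvd (Nat.Coprime.mul_left H.cop₁₃ H.cop₂₃)
    (H.cop₁₂.mul_dvd_of_dvd_of_dvd (H.cc₁.dvd_card_class fun g => ((ho x hx).2 g).1)
      (H.cc₂.dvd_card_class fun g => ((ho x hx).2 g).2.1))
    (H.cc₃.dvd_card_class fun g => ((ho x hx).2 g).2.2)

section Count

variable {w₁ w₂ w₃ g₀ : ℕ}

theorem Hyp.card_classes (H : Hyp A₁ A₂ A₃) (hw₁ : Nat.card A₁ = 2 * w₁ + 1)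
    (hw₂ : Nat.card A₂ = 4 * w₂ + 1) (hw₃ : Nat.card A₃ = 4 * w₃ + 1) :
    Nat.card (ConjClasses G) = 1 + (w₁ + w₂ + w₃) + Nat.card (OutClass A₁ A₂ A₃) := by
  have hu := congrArg (Set.image (ConjClasses.mk (α := G))) (univ_eq_union (A₁ := A₁) (A₂ := A₂) (A₃ := A₃))
  rw [Set.image_univ, Set.range_eq_univ.2 ConjClasses.mk_surjective, Set.image_insert_eq,
    Set.image_union, Set.image_union, Set.image_union] at hu
  have hne : ConjClasses.mk (1 : G) ∉ ConjClasses.mk '' Meet A₁ ∪ ConjClasses.mk '' Meet A₂ ∪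
      ConjClasses.mk '' Meet A₃ ∪ ConjClasses.mk '' {x | Outside A₁ A₂ A₃ x} := by
    rw [← Set.image_union, ← Set.image_union, ← Set.image_union]
    rintro ⟨x, hx, hx1⟩
    obtain rfl : x = 1 := (isConj_one_right.1 (ConjClasses.mk_eq_mk_iff_isConj.1 hx1).symm)
    rcases hx with ((h | h) | h) | h
    exacts [h.1 rfl, h.1 rfl, h.1 rfl, h.1 rfl]
  rw [← Set.ncard_univ, hu, Set.ncard_insert_of_notMem hne,
    Set.ncard_union_eq, Set.ncard_union_eq, Set.ncard_union_eq,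
    H.cc₁.ncard_class_meet two_pos hw₁, H.cc₂.ncard_class_meet four_pos hw₂,
    H.cc₃.ncard_class_meet four_pos hw₃]
  · have ho : (ConjClasses.mk '' {x | Outside A₁ A₂ A₃ x}).ncard = Nat.card (OutClass A₁ A₂ A₃) := by
      rw [← Nat.card_coe_set_eq]
      exact Nat.card_congr (Equiv.subtypeEquivRight fun C =>
        ⟨fun ⟨x, hx, hC⟩ => ⟨x, ConjClasses.mem_carrier_iff_mk_eq.2 hC, hx⟩,
          fun ⟨x, hC, hx⟩ => ⟨x, hx, ConjClasses.mem_carrier_iff_mk_eq.1 hC⟩⟩)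
    rw [ho]
    omega
  · exact disjoint_image_mk (disjoint_meet H.cop₁₂) meet_conj
  · rw [← Set.image_union]
    exact disjoint_image_mk (Set.disjoint_union_left.2 ⟨disjoint_meet H.cop₁₃, disjoint_meet H.cop₂₃⟩) meet_conj
  · rw [← Set.image_union, ← Set.image_union]
    exact disjoint_image_mk disjoint_meet_outside fun x hx k => hx.conj k

/-- The class equation. -/
theorem Hyp.out_count (H : Hyp A₁ A₂ A₃) (hw₁ : Nat.card A₁ = 2 * w₁ + 1)
    (hw₂ : Nat.card A₂ = 4 * w₂ + 1) (hw₃ : Nat.card A₃ = 4 * w₃ + 1)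
    (hg : Nat.card G = Nat.card A₁ * Nat.card A₂ * Nat.card A₃ * g₀) :
    ∃ K : ℕ, g₀ * (2 * ((4 * w₂ + 1) * (4 * w₃ + 1)) + (2 * w₁ + 1) * (4 * w₃ + 1) +
      (2 * w₁ + 1) * (4 * w₂ + 1)) = 4 * (K * ((2 * w₁ + 1) * (4 * w₂ + 1) * (4 * w₃ + 1)) + 1) := by
  have hne : (1 : G) ∉ Meet A₁ ∪ Meet A₂ ∪ Meet A₃ ∪ {x | Outside A₁ A₂ A₃ x} := by
    rintro (((h | h) | h) | h)
    exacts [h.1 rfl, h.1 rfl, h.1 rfl, h.1 rfl]
  have hu := congrArg Set.ncard (univ_eq_union (A₁ := A₁) (A₂ := A₂) (A₃ := A₃))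
  rw [Set.ncard_univ, Set.ncard_insert_of_notMem hne, Set.ncard_union_eq disjoint_meet_outside,
    Set.ncard_union_eq (Set.disjoint_union_left.2 ⟨disjoint_meet H.cop₁₃, disjoint_meet H.cop₂₃⟩),
    Set.ncard_union_eq (disjoint_meet H.cop₁₂)] at hu
  obtain ⟨K, hK⟩ := H.dvd_ncard_outside {x | Outside A₁ A₂ A₃ x} (fun x hx k => hx.conj k) fun x hx => hx
  rw [hK] at hu
  have e₁ := H.cc₁.ncard_meet_mul two_pos hw₁
  have e₂ := H.cc₂.ncard_meet_mul four_pos hw₂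
  have e₃ := H.cc₃.ncard_meet_mul four_pos hw₃
  rw [hg, hw₁, hw₂, hw₃] at e₁ e₂ e₃ hu
  refine ⟨K, ?_⟩
  have f₁ : (Meet A₁).ncard = (4 * w₂ + 1) * (4 * w₃ + 1) * g₀ * w₁ :=
    Nat.eq_of_mul_eq_mul_right (show 0 < 2 * w₁ + 1 by omega) (e₁.trans (by ring))
  have f₂ : (Meet A₂).ncard = (2 * w₁ + 1) * (4 * w₃ + 1) * g₀ * w₂ :=
    Nat.eq_of_mul_eq_mul_right (show 0 < 4 * w₂ + 1 by omega) (e₂.trans (by ring))
  have f₃ : (Meet A₃).ncard = (2 * w₁ + 1) * (4 * w₂ + 1) * g₀ * w₃ :=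
    Nat.eq_of_mul_eq_mul_right (show 0 < 4 * w₃ + 1 by omega) (e₃.trans (by ring))
  rw [f₁, f₂, f₃] at hu
  zify at hu ⊢
  linear_combination 4 * hu

theorem Hyp.four (H : Hyp A₁ A₂ A₃)
    (hg : Nat.card G = Nat.card A₁ * Nat.card A₂ * Nat.card A₃ * g₀) :
    4 ∣ g₀ ∧ g₀.Coprime (Nat.card A₁ * Nat.card A₂ * Nat.card A₃) := by
  have hN : 4 ∣ Nat.card G := by
    refine dvd_trans ?_ (normalizer (A₂ : Set G)).card_subgroup_dvd_card
    rw [H.cc₂.card_normalizer]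
    exact dvd_mul_right _ _
  have hodd : (Nat.card A₁ * Nat.card A₂ * Nat.card A₃).Coprime 4 :=
    Nat.Coprime.mul_left (Nat.Coprime.mul_left
      ((H.cc₁.odd (dvd_refl _)).coprime_two_right.pow_right 2)
      ((H.cc₂.odd (by norm_num)).coprime_two_right.pow_right 2))
      ((H.cc₃.odd (by norm_num)).coprime_two_right.pow_right 2)
  refine ⟨hodd.symm.dvd_of_dvd_mul_left (hg ▸ hN), ?_⟩
  have hd : ∀ (A : Subgroup G) (a m : ℕ), Nat.card G = a * m → Nat.card A = a → g₀ ∣ m →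
      (Nat.card A).Coprime A.index → g₀.Coprime a := by
    intro A a m hG ha hm hc
    have hi : A.index = m := by
      refine Nat.eq_of_mul_eq_mul_left (Nat.card_pos (α := A)) ?_
      rw [A.card_mul_index, hG, ha]
    rw [hi, ha] at hc
    exact (hc.coprime_dvd_right hm).symm
  refine Nat.Coprime.mul_right (Nat.Coprime.mul_right
    (hd A₁ _ (Nat.card A₂ * Nat.card A₃ * g₀) (by rw [hg]; ring) rfl (dvd_mul_left _ _) H.cc₁.hall)
    (hd A₂ _ (Nat.card A₁ * Nat.card A₃ * g₀) (by rw [hg]; ring) rfl (dvd_mul_left _ _) H.cc₂.hall))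
    (hd A₃ _ (Nat.card A₁ * Nat.card A₂ * g₀) (by rw [hg]; ring) rfl (dvd_mul_left _ _) H.cc₃.hall)

end Count

end Cfsg.Agent.Lie.ThreeCC
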