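import Cfsg.Agent.Lib.Lie.ThreeCC.Frame
import Cfsg.Agent.Lib.Solv.CIT.Main
import Mathlib.LinearAlgebra.Matrix.GeneralLinearGroup.Card

/-!
In the configuration of three strongly self-centralizing subgroups, a group in which centralizers of
involutions are 2-groups is a Suzuki group: the linear groups of degree two and three on the list
have no such configuration.
-/

set_option autoImplicit false

namespace Cfsg.Agent.Lie.ThreeCC

open Matrix

universe u

section Two

variable {F : Type*} [Field F]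

/-- A matrix of trace squared different from four is, up to sign and inversion, the only conjugate
of itself commuting with it. -/
theorem mat_conj_commute {A X : Matrix (Fin 2) (Fin 2) F} (hA : A.det = 1) (hX : X.det = 1)
    (ht : X.trace = A.trace) (hc : X * A = A * X) (ht4 : A.trace ^ 2 ≠ 4) :
    X = A ∨ X = -A ∨ X = A.adjugate ∨ X = -A.adjugate := by
  rw [det_fin_two] at hA hX
  rw [trace_fin_two, trace_fin_two] at ht
  rw [trace_fin_two] at ht4
  have e00 := congr_fun₂ hc 0 0
  have e01 := congr_fun₂ hc 0 1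
  have e10 := congr_fun₂ hc 1 0
  simp only [mul_apply, Fin.sum_univ_two] at e00 e01 e10
  obtain ⟨α, β, h00, h01, h10, h11⟩ : ∃ α β : F, X 0 0 = α + β * A 0 0 ∧ X 0 1 = β * A 0 1 ∧
      X 1 0 = β * A 1 0 ∧ X 1 1 = α + β * A 1 1 := by
    by_cases h1 : A 0 1 = 0
    · by_cases h2 : A 1 0 = 0
      · have h3 : A 0 0 - A 1 1 ≠ 0 := by
          intro h3
          exact ht4 (by linear_combination 4 * hA + 4 * A 1 0 * h1 + (A 0 0 - A 1 1) * h3)
        refine ⟨X 0 0 - (X 0 0 - X 1 1) / (A 0 0 - A 1 1) * A 0 0, (X 0 0 - X 1 1) / (A 0 0 - A 1 1),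
          by ring, ?_, ?_, by field_simp; ring⟩
        · have : X 0 1 * (A 0 0 - A 1 1) = 0 := by rw [h1] at e01; linear_combination -e01
          rw [h1, mul_zero]; exact (mul_eq_zero.1 this).resolve_right h3
        · have : X 1 0 * (A 0 0 - A 1 1) = 0 := by rw [h2] at e10; linear_combination e10
          rw [h2, mul_zero]; exact (mul_eq_zero.1 this).resolve_right h3
      · refine ⟨X 0 0 - X 1 0 / A 1 0 * A 0 0, X 1 0 / A 1 0, by ring, ?_, by field_simp, ?_⟩
        · field_simp; linear_combination e00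
        · field_simp; linear_combination e10
    · refine ⟨X 0 0 - X 0 1 / A 0 1 * A 0 0, X 0 1 / A 0 1, by ring, by field_simp, ?_, ?_⟩
      · field_simp; linear_combination -e00
      · field_simp; linear_combination -e01
  rw [h00, h11] at ht
  rw [h00, h01, h10, h11] at hX
  have hb : (β - 1) * (β + 1) * (4 - (A 0 0 + A 1 1) ^ 2) = 0 := by
    linear_combination (A 0 0 + A 1 1 + (2 * α + β * (A 0 0 + A 1 1))) * (-ht) + 4 * hX
      + (-4 * β ^ 2) * hA
  rcases mul_eq_zero.1 hb with hb | hb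
  · rcases mul_eq_zero.1 hb with hb | hb
    · obtain rfl : β = 1 := sub_eq_zero.1 hb
      have h2 : α * (α + (A 0 0 + A 1 1)) = 0 := by linear_combination hX - hA
      rcases mul_eq_zero.1 h2 with h | h
      · left; ext i j; fin_cases i <;> fin_cases j <;> simp [h00, h01, h10, h11, h]
      · obtain rfl : α = -(A 0 0 + A 1 1) := eq_neg_of_add_eq_zero_left h
        right; right; right; ext i j
        fin_cases i <;> fin_cases j <;> simp [adjugate_fin_two, h00, h01, h10, h11]
    · obtain rfl : β = -1 := eq_neg_of_add_eq_zero_left hb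
      have h2 : α * (α - (A 0 0 + A 1 1)) = 0 := by linear_combination hX - hA
      rcases mul_eq_zero.1 h2 with h | h
      · right; left; ext i j; fin_cases i <;> fin_cases j <;> simp [h00, h01, h10, h11, h]
      · obtain rfl : α = A 0 0 + A 1 1 := sub_eq_zero.1 h
        right; right; left; ext i j
        fin_cases i <;> fin_cases j <;> simp [adjugate_fin_two, h00, h01, h10, h11]
  · exact absurd (sub_eq_zero.1 hb).symm ht4

/-- A nontrivial matrix of odd order and trace squared four is unipotent. -/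
theorem mat_unipotent {A : Matrix (Fin 2) (Fin 2) F} (hA : A.det = 1) (ht4 : A.trace ^ 2 = 4)
    {n : ℕ} (hn : Odd n) (hAn : A ^ n = 1) (hA1 : A ≠ 1) : (n : F) = 0 := by
  rw [det_fin_two] at hA
  rw [trace_fin_two] at ht4
  have hCH : A * A = (A 0 0 + A 1 1) • A - 1 := by
    ext i j
    fin_cases i <;> fin_cases j <;> simp [mul_apply, Fin.sum_univ_two] <;>
      first | ring1 | linear_combination -hA
  set t := A 0 0 + A 1 1 with ht
  obtain ⟨k, hk⟩ := hn
  by_cases h2 : (2 : F) = 0
  · have ht0 : t = 0 := by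
      have : t ^ 2 = 0 := by rw [ht4]; linear_combination 2 * h2
      exact (sq_eq_zero_iff).1 this
    have hsq : A * A = 1 := by
      rw [hCH, ht0, zero_smul, zero_sub]
      ext i j
      fin_cases i <;> fin_cases j <;> simp <;> linear_combination -h2
    exact absurd (by rw [hk, pow_succ, pow_mul, pow_two, hsq, one_pow, one_mul] at hAn; exact hAn) hA1
  set s := t / 2 with hs
  have hts : t = 2 * s := by rw [hs]; field_simp
  have hs2 : s * s = 1 := by
    have : (4 : F) ≠ 0 := by
      have h4 : (4 : F) = 2 * 2 := by norm_num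
      rw [h4]; exact mul_ne_zero h2 h2
    exact mul_left_cancel₀ this (by rw [hts] at ht4; linear_combination ht4)
  set M : Matrix (Fin 2) (Fin 2) F := s • A - 1 with hM
  have hMM : M * M = 0 := by
    rw [hM, sub_mul, mul_sub, one_mul, mul_one, smul_mul_smul_comm, hs2, one_smul, hCH, hts]
    module
  have hAM : A = s • (1 + M) := by rw [hM, add_sub_cancel, smul_smul, hs2, one_smul]
  have hpow : ∀ m : ℕ, (1 + M) ^ m = 1 + (m : F) • M := by
    intro m
    induction m with
    | zero => simp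
    | succ m ih =>
      rw [pow_succ, ih, add_mul, one_mul, smul_mul_assoc, mul_add, mul_one, hMM, add_zero]
      push_cast
      module
  rw [hAM, smul_pow, hpow, hk, pow_succ, pow_mul, pow_two, hs2, one_pow, one_mul, ← hk] at hAn
  have htr := congrArg Matrix.trace hAn
  have htM : M.trace = 0 := by
    rw [hM, trace_sub, trace_smul, trace_one, trace_fin_two, ← ht, hts, smul_eq_mul]
    simp; linear_combination 2 * hs2
  rw [trace_smul, trace_add, trace_smul, htM, trace_one] at htr
  simp at htr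
  have hs1 : s = 1 := by
    apply mul_left_cancel₀ h2; linear_combination htr
  rw [hs1, one_smul] at hAn hAM
  have hM0 : (n : F) • M = 0 := add_eq_left.1 hAn
  rcases smul_eq_zero.1 hM0 with h | h
  · exact h
  · exact absurd (by rw [hAM, h, add_zero]) hA1

/-- In `PSL₂(F)` an element of odd order whose order is invertible in `F` is, up to inversion, the
only conjugate of itself commuting with it. -/
theorem psl_conj_commute {a g : Matrix.ProjectiveSpecialLinearGroup (Fin 2) F} {n : ℕ} (hn : Odd n)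
    (ha : a ^ n = 1) (ha1 : a ≠ 1) (hnF : (n : F) ≠ 0) (hc : Commute (g * a * g⁻¹) a) :
    g * a * g⁻¹ = a ∨ g * a * g⁻¹ = a⁻¹ := by
  obtain ⟨A₀, rfl⟩ := QuotientGroup.mk_surjective a
  obtain ⟨B, rfl⟩ := QuotientGroup.mk_surjective g
  have hcen : ∀ Z ∈ Subgroup.center (Matrix.SpecialLinearGroup (Fin 2) F), Z * Z = 1 := by
    intro Z hZ
    obtain ⟨r, hr, hrZ⟩ := Matrix.SpecialLinearGroup.mem_center_iff.1 hZ
    rw [Fintype.card_fin, pow_two] at hr
    refine Subtype.ext ?_
    show (Z : Matrix (Fin 2) (Fin 2) F) * Z = 1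
    rw [← hrZ, ← map_mul, hr, map_one]
  obtain ⟨k, hk⟩ := id hn
  have hA₀ : A₀ ^ n ∈ Subgroup.center (Matrix.SpecialLinearGroup (Fin 2) F) := by
    rw [← QuotientGroup.eq_one_iff, QuotientGroup.mk_pow]; exact ha
  set A := A₀ ^ (n + 1) with hA
  have hAn : A ^ n = 1 := by
    rw [hA, ← pow_mul, mul_comm (n + 1) n, pow_mul, show n + 1 = 2 * (k + 1) by omega, pow_mul,
      pow_two, hcen _ hA₀, one_pow]
  have hAa : (QuotientGroup.mk A : Matrix.ProjectiveSpecialLinearGroup (Fin 2) F) = QuotientGroup.mk A₀ := by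
    rw [hA, QuotientGroup.mk_pow, pow_succ, ha, one_mul]
  rw [← hAa] at ha1 hc ⊢
  have hA1 : (A : Matrix (Fin 2) (Fin 2) F) ≠ 1 := fun e =>
    ha1 (by rw [show A = 1 from Subtype.ext e]; rfl)
  set X := B * A * B⁻¹ with hX
  have hXn : X ^ n = 1 := by rw [hX, conj_pow, hAn, mul_one, mul_inv_cancel]
  have hcomm : X * A = A * X := by
    set Z := A⁻¹ * (X * A * X⁻¹) with hZ
    have hZc : Z ∈ Subgroup.center (Matrix.SpecialLinearGroup (Fin 2) F) := by
      rw [← QuotientGroup.eq_one_iff, hZ]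
      simp only [QuotientGroup.mk_mul, QuotientGroup.mk_inv]
      rw [hX]
      simp only [QuotientGroup.mk_mul, QuotientGroup.mk_inv]
      rw [hc.eq, mul_inv_cancel_right, inv_mul_cancel]
    have h1 : (A * Z) ^ n = 1 := by
      rw [hZ, mul_inv_cancel_left, conj_pow, hAn, mul_one, mul_inv_cancel]
    have hAZ : Commute A Z := Subgroup.mem_center_iff.1 hZc A
    rw [hAZ.mul_pow, hAn, one_mul, hk, pow_succ, pow_mul, pow_two, hcen _ hZc, one_pow, one_mul]
      at h1
    have h3 : X * A * X⁻¹ = A := by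
      rw [← mul_inv_cancel_left A (X * A * X⁻¹), ← hZ, h1, mul_one]
    exact mul_inv_eq_iff_eq_mul.1 h3
  have ht : (X : Matrix (Fin 2) (Fin 2) F).trace = (A : Matrix (Fin 2) (Fin 2) F).trace := by
    rw [show (X : Matrix (Fin 2) (Fin 2) F) = (↑(B * A) : Matrix (Fin 2) (Fin 2) F) * ↑(B⁻¹) from
      Matrix.SpecialLinearGroup.coe_mul _ _, Matrix.trace_mul_comm, ← Matrix.SpecialLinearGroup.coe_mul,
      inv_mul_cancel_left]
  by_cases ht4 : (A : Matrix (Fin 2) (Fin 2) F).trace ^ 2 = 4
  · exact absurd (mat_unipotent A.2 ht4 hn (by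
      rw [← Matrix.SpecialLinearGroup.coe_pow, hAn]; rfl) hA1) hnF
  have hneg : ∀ {U V : Matrix.SpecialLinearGroup (Fin 2) F},
      (U : Matrix (Fin 2) (Fin 2) F) = -(V : Matrix (Fin 2) (Fin 2) F) →
      (QuotientGroup.mk U : Matrix.ProjectiveSpecialLinearGroup (Fin 2) F) = QuotientGroup.mk V := by
    intro U V h
    refine QuotientGroup.eq.2 (Matrix.SpecialLinearGroup.mem_center_iff.2 ⟨-1, by simp, ?_⟩)
    rw [Matrix.SpecialLinearGroup.coe_mul, Matrix.SpecialLinearGroup.coe_inv]
    have : (V : Matrix (Fin 2) (Fin 2) F) = -(U : Matrix (Fin 2) (Fin 2) F) := by rw [h, neg_neg]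
    rw [this, mul_neg, adjugate_mul, U.2, one_smul, map_neg, map_one]
  have hXg : (QuotientGroup.mk X : Matrix.ProjectiveSpecialLinearGroup (Fin 2) F) =
      QuotientGroup.mk B * QuotientGroup.mk A * (QuotientGroup.mk B)⁻¹ := rfl
  rw [← hXg, ← QuotientGroup.mk_inv]
  rcases mat_conj_commute A.2 X.2 ht (by
    rw [← Matrix.SpecialLinearGroup.coe_mul, hcomm, Matrix.SpecialLinearGroup.coe_mul]) ht4 with h | h | h | h
  · exact Or.inl (congrArg _ (Subtype.ext h))
  · exact Or.inl (hneg h)
  · exact Or.inr (congrArg _ (Subtype.ext (h.trans (Matrix.SpecialLinearGroup.coe_inv A).symm)))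
  · exact Or.inr (hneg (by rw [h, Matrix.SpecialLinearGroup.coe_inv]))

end Two

/-- A strongly self-centralizing subgroup of index four in its normalizer inside a copy of
`PSL₂(F)` has order divisible by the characteristic. -/
theorem CCSub.cast_card_eq_zero {G : Type u} [Group G] [Finite G] {A : Subgroup G} (h : CCSub A 4)
    (hA : 1 < Nat.card A) {F : Type*} [Field F]
    (e : G ≃* Matrix.ProjectiveSpecialLinearGroup (Fin 2) F) : (Nat.card A : F) = 0 := by
  by_contra hnF
  obtain ⟨a, haA, ha1⟩ := Subgroup.ne_bot_iff_exists_ne_one.1 (Subgroup.one_lt_card_iff_ne_bot A |>.1 hA)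
    |> fun ⟨x, hx⟩ => (⟨x.1, x.2, fun e => hx (Subtype.ext e)⟩ : ∃ a ∈ A, a ≠ 1)
  have han : a ^ Nat.card A = 1 := congrArg Subtype.val (pow_card_eq_one' (x := (⟨a, haA⟩ : A)))
  have key : ∀ g ∈ Subgroup.normalizer (A : Set G), g * a * g⁻¹ ∈ ({a, a⁻¹} : Set G) := by
    intro g hg
    have hm : g * a * g⁻¹ ∈ A := (Subgroup.mem_normalizer_iff.1 hg a).1 haA
    have := psl_conj_commute (F := F) (h.odd (by norm_num)) (a := e a) (g := e g) (by rw [← map_pow, han, map_one])
      (fun h1 => ha1 (e.map_eq_one_iff.1 h1)) hnF (by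
        rw [← map_inv, ← map_mul, ← map_mul, commute_iff_eq, ← map_mul, ← map_mul, h.comm _ hm _ haA])
    rw [← map_inv, ← map_mul, ← map_mul, ← map_inv] at this
    rcases this with h1 | h1
    · exact Or.inl (e.injective h1)
    · exact Or.inr (e.injective h1)
  set N := Subgroup.normalizer (A : Set G) with hN
  let f : ↥N ⧸ A.subgroupOf N → ({a, a⁻¹} : Set G) := Quotient.lift
    (fun g => ⟨g.1 * a * g.1⁻¹, key g.1 g.2⟩) (by
      intro g g' hgg'
      have hm : g.1⁻¹ * g'.1 ∈ A :=
        Subgroup.mem_subgroupOf.1 ((QuotientGroup.leftRel_apply (s := A.subgroupOf N)).1 hgg')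
      have hc := h.comm _ hm _ haA
      refine Subtype.ext ?_
      show g.1 * a * g.1⁻¹ = g'.1 * a * g'.1⁻¹
      calc g.1 * a * g.1⁻¹ = g.1 * (a * (g.1⁻¹ * g'.1)) * g'.1⁻¹ := by group
        _ = g.1 * ((g.1⁻¹ * g'.1) * a) * g'.1⁻¹ := by rw [hc]
        _ = g'.1 * a * g'.1⁻¹ := by group)
  have hf : Function.Injective f := by
    intro x y
    induction x using Quotient.inductionOn with
    | h g =>
    induction y using Quotient.inductionOn with
    | h g' =>
    intro hxy
    have hxy' : g.1 * a * g.1⁻¹ = g'.1 * a * g'.1⁻¹ := congrArg Subtype.val hxy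
    refine Quotient.sound (QuotientGroup.leftRel_apply.2 ?_)
    show g.1⁻¹ * g'.1 ∈ A
    rw [← h.cent a haA ha1, Subgroup.mem_centralizer_singleton_iff]
    calc g.1⁻¹ * g'.1 * a = g.1⁻¹ * (g'.1 * a * g'.1⁻¹) * g'.1 := by group
      _ = g.1⁻¹ * (g.1 * a * g.1⁻¹) * g'.1 := by rw [hxy']
      _ = a * (g.1⁻¹ * g'.1) := by group
  have h4 : Nat.card (↥N ⧸ A.subgroupOf N) = 4 := h.idx
  have h2 : Nat.card ({a, a⁻¹} : Set G) ≤ 2 := by
    rw [Nat.card_coe_set_eq]
    exact (Set.ncard_insert_le _ _).trans (by rw [Set.ncard_singleton])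
  have := (Nat.card_le_card_of_injective f hf).trans h2
  omega

/-- In the configuration, a group in which the centralizers of involutions are 2-groups is a Suzuki
group. -/
theorem iso_suzuki_of_cit {G : Type u} [Group G] [Finite G] [IsSimpleGroup G]
    (hna : ∃ a b : G, a * b ≠ b * a) {A₁ A₂ A₃ : Subgroup G} (H : Hyp A₁ A₂ A₃)
    (hC : Cfsg.Agent.Solv.CITGroups.CIT G) : Cfsg.Lie.IsoSuzuki G := by
  have h2 : 2 ∣ Nat.card G := by
    refine dvd_trans ?_ (Subgroup.card_subgroup_dvd_card (Subgroup.normalizer (A₂ : Set G)))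
    refine dvd_trans (⟨2, rfl⟩ : (2 : ℕ) ∣ 4) ?_
    rw [← H.cc₂.idx]
    exact Subgroup.index_dvd_card _
  rcases Cfsg.Agent.Solv.CITGroups.cit_classification_iso hna hC h2 with
    ⟨F, _, _, -, ⟨e⟩⟩ | ⟨F, _, _, hF, ⟨e⟩⟩ | hs
  · exfalso
    have h2z := H.cc₂.cast_card_eq_zero (by have := H.n₂; omega) e
    have h3z := H.cc₃.cast_card_eq_zero (by have := H.n₃; omega) e
    have hb := Nat.gcd_eq_gcd_ab (Nat.card A₂) (Nat.card A₃)
    rw [Nat.coprime_iff_gcd_eq_one.1 H.cop₂₃] at hb
    have := congrArg (fun z : ℤ => (z : F)) hb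
    push_cast at this
    rw [h2z, h3z] at this
    simp at this
  · exfalso
    have hd : Nat.card G ∣ 181440 := by
      rw [Nat.card_congr e.toEquiv]
      refine (Subgroup.card_quotient_dvd_card _).trans ?_
      refine (Subgroup.card_dvd_of_injective Matrix.SpecialLinearGroup.toGL
        Matrix.SpecialLinearGroup.toGL_injective).trans ?_
      rw [Matrix.card_GL_field, Fin.prod_univ_three, hF]
      norm_num
    have key : ∀ {A : Subgroup G}, CCSub A 4 → 5 < Nat.card A → 3 ∣ Nat.card A := by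
      intro A hA h5
      by_contra h3
      have h81 : (Nat.card A).Coprime 81 :=
        Nat.Coprime.pow_right 4 ((Nat.prime_three.coprime_iff_not_dvd.2 h3).symm)
      have h64 : (Nat.card A).Coprime 64 :=
        Nat.Coprime.pow_right 6 (hA.odd (by norm_num)).coprime_two_right
      have h35 : Nat.card A ∣ 35 := h81.dvd_of_dvd_mul_right (h64.dvd_of_dvd_mul_right
        (show Nat.card A ∣ 35 * 81 * 64 from (A.card_subgroup_dvd_card).trans hd))
      have h4 := hA.dvd_sub_one
      have hle := Nat.le_of_dvd (by norm_num) h35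
      revert h35 h4 h5 hle
      generalize Nat.card A = m
      intro h5 h35 h4 hle
      interval_cases m <;> norm_num at *
    exact absurd (Nat.dvd_gcd (key H.cc₂ H.n₂) (key H.cc₃ H.n₃)) (by
      rw [Nat.coprime_iff_gcd_eq_one.1 H.cop₂₃]; norm_num)
  · exact hs

end Cfsg.Agent.Lie.ThreeCC
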