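import Cfsg.Agent.Lib.Lie.ThreeCC.Frame
import Cfsg.Agent.Lib.Lie.ThreeCC.Budget
import Cfsg.Agent.Lib.Char.TIFamilyColumn

/-!
# All but `W + 4` irreducible characters vanish on the three subgroups
-/

set_option autoImplicit false
set_option linter.unusedSectionVars false
set_option linter.style.haveILetI false

namespace Cfsg.Agent.Lie.ThreeCC

open Cfsg Cfsg.Agent.Char
open scoped ComplexConjugate

universe u

variable {G : Type u} [Group G] [Fintype G] {A B : Subgroup G} {e f w v : ℕ}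

/-- The trivial character. -/
noncomputable abbrev triv (G : Type u) [Group G] [Fintype G] : IrrCharacter G :=
  ⟨fun _ => 1, isIrrCharacter_one⟩

/-- The exceptional family of one subgroup, with the constant values of the other characters. -/
structure Fam (A : Subgroup G) (e w : ℕ) where
  S : Finset (IrrCharacter G)
  σ : ℤ
  z : IrrCharacter G → ℤ
  card : S.card = w
  one_not_mem : triv G ∉ S
  z_one : z (triv G) = 1
  zval : ∀ χ, χ ∉ S → ∀ k ∈ A, k ≠ 1 → (χ : G → ℂ) k = z χ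
  colsum : ∀ k ∈ A, k ≠ 1 → ∑ χ ∈ S, (χ : G → ℂ) k = σ
  norm : ∑ χ ∈ Sᶜ, z χ ^ 2 ≤ e
  away : ∀ χ ∈ S, ∀ ψ ∈ S, ∀ g : G, (∀ x : G, x * g * x⁻¹ ∈ A → g = 1) →
    (χ : G → ℂ) g = (ψ : G → ℂ) g
  inj : ∀ χ ∈ S, ∀ ψ ∈ S, (∀ k ∈ A, k ≠ 1 → (χ : G → ℂ) k = (ψ : G → ℂ) k) → χ = ψ
  nonconst : ∀ χ ∈ S, ∃ a ∈ A, ∃ b ∈ A, a ≠ 1 ∧ b ≠ 1 ∧ (χ : G → ℂ) a ≠ (χ : G → ℂ) b

theorem exists_mem_ne_one (h : 1 < Nat.card A) : ∃ k ∈ A, k ≠ 1 := by
  obtain ⟨k, hk⟩ := @exists_ne A (Finite.one_lt_card_iff_nontrivial.1 h) 1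
  exact ⟨k, k.2, fun e => hk (Subtype.ext e)⟩

open scoped Classical in
theorem exists_fam (h : CCSub A e) (he : 0 < e) (hn : Nat.card A = e * w + 1) (hw : 2 ≤ w) :
    Nonempty (Fam A e w) := by
  haveI : Fintype A := Fintype.ofFinite _
  have hbig : 2 * e + 1 ≤ Nat.card A := by
    have := Nat.mul_le_mul_left e hw
    omega
  obtain ⟨S, ε, c, hε, hcard, hsum1, hsum2, -, hout, hdist, hconst, hnonc⟩ := exists_ti_family A h.ti
    (fun k hk hk1 => (h.cent k hk hk1).le) h.comm e h.card_normalizer hbig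
  have hSw : S.card = w := by
    rw [hn] at hcard
    exact Nat.eq_of_mul_eq_mul_left he (by omega)
  choose! z hz using hconst
  obtain ⟨k, hk, hk1⟩ := exists_mem_ne_one (A := A) (by omega)
  have honeS : triv G ∉ S := fun hm => by
    obtain ⟨a, -, b, -, -, -, hne⟩ := hnonc _ hm
    exact hne rfl
  have hz1 : z (triv G) = 1 := by
    have h1 := hz _ honeS k hk hk1
    have h2 : (z (triv G) : ℂ) = ((1 : ℤ) : ℂ) := by rw [Int.cast_one]; exact h1.symm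
    exact_mod_cast h2
  refine ⟨⟨S, -ε + w * c, z, hSw, honeS, hz1, hz, fun a ha ha1 => ?_, ?_, hout, hdist, hnonc⟩⟩
  · rw [hsum1 a ha ha1, hSw]; push_cast; ring
  · have h1 := second_orth k k
    rw [if_pos (IsConj.refl k), ← Finset.sum_add_sum_compl S, hsum2 k hk hk1] at h1
    have h3 : (Nat.card G : ℂ) / (Nat.card {x : G // IsConj k x} : ℂ) = (Nat.card A : ℂ) := by
      rw [div_eq_iff (Nat.cast_ne_zero.2 (card_conjClass_ne_zero k)), ← h.cent k hk hk1,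
        ← Nat.cast_mul, mul_comm, card_conjClass_mul_centralizer]
    have h4 : ∑ χ ∈ Sᶜ, (χ : G → ℂ) k * conj ((χ : G → ℂ) k) = ((∑ χ ∈ Sᶜ, z χ ^ 2 : ℤ) : ℂ) := by
      push_cast
      refine Finset.sum_congr rfl fun χ hχ => ?_
      rw [hz χ (Finset.mem_compl.1 hχ) k hk hk1, map_intCast, pow_two]
    rw [h3, h4, hSw] at h1
    have h5 : (∑ χ ∈ Sᶜ, z χ ^ 2) = (e : ℤ) + 2 * ε * c - (w : ℤ) * (c * c) := by
      have : ((∑ χ ∈ Sᶜ, z χ ^ 2 : ℤ) : ℂ) = (((e : ℤ) + 2 * ε * c - (w : ℤ) * (c * c) : ℤ) : ℂ) := by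
        push_cast
        push_cast at h1
        linear_combination h1
      exact_mod_cast this
    rw [h5]
    have hcc : ε * c ≤ c * c := by
      rcases hε with rfl | rfl
      · have := Int.le_self_sq c; rw [pow_two] at this; linarith
      · have := Int.le_self_sq (-c); rw [pow_two] at this; linarith
    have : (2 : ℤ) * (c * c) ≤ w * (c * c) :=
      mul_le_mul_of_nonneg_right (by exact_mod_cast hw) (mul_self_nonneg c)
    linarith

/-- Non-identity elements of subgroups of coprime orders are not conjugate. -/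
theorem not_mem_of_coprime (hco : (Nat.card A).Coprime (Nat.card B)) {k x : G} (hk : k ∈ A)
    (hx : x * k * x⁻¹ ∈ B) : k = 1 := by
  rw [← orderOf_eq_one_iff]
  refine Nat.dvd_one.1 (hco ▸ Nat.dvd_gcd (A.orderOf_dvd_natCard hk) ?_)
  rw [← MulEquiv.orderOf_eq (MulAut.conj x) k]
  exact B.orderOf_dvd_natCard hx

theorem Fam.away' (F : Fam B f v) (hco : (Nat.card A).Coprime (Nat.card B)) {χ ψ : IrrCharacter G}
    (hχ : χ ∈ F.S) (hψ : ψ ∈ F.S) {k : G} (hk : k ∈ A) : (χ : G → ℂ) k = (ψ : G → ℂ) k :=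
  F.away χ hχ ψ hψ k fun _ hx => not_mem_of_coprime hco hk hx

/-- The families are disjoint. -/
theorem Fam.disjoint (E : Fam A e w) (F : Fam B f v) (hco : (Nat.card A).Coprime (Nat.card B))
    (hv : 2 ≤ v) : Disjoint E.S F.S := by
  rw [Finset.disjoint_left]
  intro χ hE hF
  obtain ⟨ψ, hψ, hne⟩ := Finset.exists_mem_ne (s := F.S) (by rw [F.card]; omega) χ
  by_cases hψE : ψ ∈ E.S
  · exact hne (E.inj ψ hψE χ hE fun k hk _ => F.away' hco hψ hF hk)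
  · obtain ⟨a, ha, b, hb, ha1, hb1, hab⟩ := E.nonconst χ hE
    exact hab (by rw [F.away' hco hF hψ ha, F.away' hco hF hψ hb, E.zval ψ hψE a ha ha1,
      E.zval ψ hψE b hb hb1])

/-- The common value of a family on another subgroup. -/
theorem Fam.exists_const (E : Fam A e w) (F : Fam B f v) (hco : (Nat.card A).Coprime (Nat.card B))
    (hA : 1 < Nat.card A) (hv : 2 ≤ v) : ∃ u : ℤ, ∀ χ ∈ F.S, E.z χ = u := by
  obtain ⟨ψ, hψ⟩ := Finset.card_pos.1 (show 0 < F.S.card by rw [F.card]; omega)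
  obtain ⟨k, hk, hk1⟩ := exists_mem_ne_one hA
  have hd := E.disjoint F hco hv
  refine ⟨E.z ψ, fun χ hχ => ?_⟩
  have h1 := F.away' hco hχ hψ hk
  rw [E.zval χ (fun h => Finset.disjoint_left.1 hd h hχ) k hk hk1,
    E.zval ψ (fun h => Finset.disjoint_left.1 hd h hψ) k hk hk1] at h1
  exact_mod_cast h1

open scoped Classical in
/-- The orthogonality of two columns. -/
theorem Fam.orth {C : Subgroup G} {d x : ℕ} (E : Fam A e w) (F : Fam B f v) (D : Fam C d x)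
    (hco : (Nat.card A).Coprime (Nat.card B)) (hA : 1 < Nat.card A) (hB : 1 < Nat.card B)
    (R : Finset (IrrCharacter G)) {ue uf da db : ℤ}
    (hue : ∀ χ ∈ E.S, F.z χ = ue) (huf : ∀ χ ∈ F.S, E.z χ = uf)
    (hda : ∀ χ ∈ D.S, E.z χ = da) (hdb : ∀ χ ∈ D.S, F.z χ = db)
    (hsplit : ∀ φ : IrrCharacter G → ℂ, ∑ χ, φ χ =
      φ (triv G) + ∑ χ ∈ E.S, φ χ + ∑ χ ∈ F.S, φ χ + ∑ χ ∈ D.S, φ χ + ∑ χ ∈ R, φ χ)
    (hEF : Disjoint E.S F.S) (hED : Disjoint E.S D.S) (hFD : Disjoint F.S D.S)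
    (hRE : ∀ χ ∈ R, χ ∉ E.S) (hRF : ∀ χ ∈ R, χ ∉ F.S) :
    1 + ∑ χ ∈ R, E.z χ * F.z χ + E.σ * ue + F.σ * uf + x * (da * db) = 0 := by
  obtain ⟨k, hk, hk1⟩ := exists_mem_ne_one hA
  obtain ⟨l, hl, hl1⟩ := exists_mem_ne_one hB
  have hnc : ¬ IsConj k l := fun h => by
    obtain ⟨g, hg⟩ := isConj_iff.1 h
    exact hk1 (not_mem_of_coprime hco hk (hg.symm ▸ hl))
  have h := second_orth k l
  rw [if_neg hnc, hsplit] at h
  have e1 : ∑ χ ∈ E.S, (χ : G → ℂ) k * conj ((χ : G → ℂ) l) = (E.σ : ℂ) * ue := by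
    rw [← E.colsum k hk hk1, Finset.sum_mul]
    refine Finset.sum_congr rfl fun χ hχ => ?_
    rw [F.zval χ (Finset.disjoint_left.1 hEF hχ) l hl hl1, hue χ hχ, map_intCast]
  have e2 : ∑ χ ∈ F.S, (χ : G → ℂ) k * conj ((χ : G → ℂ) l) = (F.σ : ℂ) * uf := by
    rw [show (F.σ : ℂ) = conj (F.σ : ℂ) from (map_intCast _ _).symm, ← F.colsum l hl hl1, map_sum,
      Finset.sum_mul]
    refine Finset.sum_congr rfl fun χ hχ => ?_
    rw [E.zval χ (Finset.disjoint_right.1 hEF hχ) k hk hk1, huf χ hχ, mul_comm]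
  have e3 : ∑ χ ∈ D.S, (χ : G → ℂ) k * conj ((χ : G → ℂ) l) = (x : ℂ) * ((da : ℂ) * db) := by
    rw [Finset.sum_congr rfl (g := fun _ => (da : ℂ) * db) fun χ hχ => by
      rw [E.zval χ (Finset.disjoint_right.1 hED hχ) k hk hk1,
        F.zval χ (Finset.disjoint_right.1 hFD hχ) l hl hl1, map_intCast, hda χ hχ, hdb χ hχ],
      Finset.sum_const, nsmul_eq_mul, D.card]
  have e4 : ∑ χ ∈ R, (χ : G → ℂ) k * conj ((χ : G → ℂ) l) = ((∑ χ ∈ R, E.z χ * F.z χ : ℤ) : ℂ) := by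
    push_cast
    refine Finset.sum_congr rfl fun χ hχ => ?_
    rw [E.zval χ (hRE χ hχ) k hk hk1, F.zval χ (hRF χ hχ) l hl hl1, map_intCast]
  rw [e1, e2, e3, e4] at h
  simp only [map_one, mul_one] at h
  have h' : ((1 + ∑ χ ∈ R, E.z χ * F.z χ + E.σ * ue + F.σ * uf + x * (da * db) : ℤ) : ℂ) = ((0 : ℤ) : ℂ) := by
    push_cast
    push_cast at h
    linear_combination h
  exact_mod_cast h'

/-- A character vanishing on `A` off the identity has degree divisible by the order of `A`. -/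
theorem dvd_deg_of_vanish (A : Subgroup G) {χ : IrrCharacter G}
    (h : ∀ k ∈ A, k ≠ 1 → (χ : G → ℂ) k = 0) : Nat.card A ∣ deg (χ : G → ℂ) := by
  classical
  haveI : Fintype A := Fintype.ofFinite _
  set F : A → ℂ := fun k => (χ : G → ℂ) k with hF
  have hFc : IsCharacter A F := isCharacter_comp A.subtype (irr_isCharacter χ.2)
  obtain ⟨z, -, hz⟩ := exists_int_coords (θ := F) ⟨F, 0, hFc, isCharacter_zero, (sub_zero F).symm⟩
  have h1 := hz (triv A)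
  rw [classInner, Finset.sum_eq_single (1 : A) (fun k _ hk => by
      rw [show F k = 0 from h k k.2 (fun e => hk (Subtype.ext e)), zero_mul])
    (fun hh => absurd (Finset.mem_univ _) hh)] at h1
  simp only [hF, OneMemClass.coe_one, map_one, mul_one, char_one_eq_deg (irr_isCharacter χ.2)] at h1
  rw [inv_mul_eq_iff_eq_mul₀ (Nat.cast_ne_zero.2 Nat.card_pos.ne')] at h1
  have h2 : (deg (χ : G → ℂ) : ℤ) = (Nat.card A : ℤ) * z (triv A) := by exact_mod_cast h1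
  exact Int.natCast_dvd_natCast.1 ⟨_, h2⟩

open scoped Classical in
/-- At most `W + 4` irreducible characters are non-zero on one of the subgroups. -/
theorem Hyp.exists_vanishing {A₁ A₂ A₃ : Subgroup G} (H : Hyp A₁ A₂ A₃) {w₁ w₂ w₃ : ℕ}
    (hw₁ : Nat.card A₁ = 2 * w₁ + 1) (hw₂ : Nat.card A₂ = 4 * w₂ + 1) (hw₃ : Nat.card A₃ = 4 * w₃ + 1) :
    ∃ Z : Finset (IrrCharacter G), Fintype.card (IrrCharacter G) ≤ Z.card + (w₁ + w₂ + w₃ + 4) ∧
      ∀ χ ∈ Z, Nat.card A₁ * Nat.card A₂ * Nat.card A₃ ∣ deg (χ : G → ℂ) := by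
  have := H.n₁
  have := H.n₂
  have := H.n₃
  have v1 : 2 ≤ w₁ := by omega
  have v2 : 2 ≤ w₂ := by omega
  have v3 : 2 ≤ w₃ := by omega
  have c1 : 1 < Nat.card A₁ := by omega
  have c2 : 1 < Nat.card A₂ := by omega
  have c3 : 1 < Nat.card A₃ := by omega
  obtain ⟨E⟩ := exists_fam H.cc₁ (by norm_num) hw₁ v1
  obtain ⟨F⟩ := exists_fam H.cc₂ (by norm_num) hw₂ v2
  obtain ⟨D⟩ := exists_fam H.cc₃ (by norm_num) hw₃ v3
  have hEF := E.disjoint F H.cop₁₂ v2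
  have hED := E.disjoint D H.cop₁₃ v3
  have hFD := F.disjoint D H.cop₂₃ v3
  obtain ⟨u12, h12⟩ := E.exists_const F H.cop₁₂ c1 v2
  obtain ⟨u13, h13⟩ := E.exists_const D H.cop₁₃ c1 v3
  obtain ⟨u21, h21⟩ := F.exists_const E H.cop₁₂.symm c2 v1
  obtain ⟨u23, h23⟩ := F.exists_const D H.cop₂₃ c2 v3
  obtain ⟨u31, h31⟩ := D.exists_const E H.cop₁₃.symm c3 v1
  obtain ⟨u32, h32⟩ := D.exists_const F H.cop₂₃.symm c3 v2
  set R : Finset (IrrCharacter G) := (insert (triv G) (E.S ∪ F.S ∪ D.S))ᶜ with hR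
  have hRm : ∀ χ, χ ∈ R ↔ χ ≠ triv G ∧ χ ∉ E.S ∧ χ ∉ F.S ∧ χ ∉ D.S := fun χ => by
    simp only [hR, Finset.mem_compl, Finset.mem_insert, Finset.mem_union, not_or]
    tauto
  have hsplit : ∀ {M : Type} [AddCommMonoid M] (φ : IrrCharacter G → M), ∑ χ, φ χ =
      φ (triv G) + ∑ χ ∈ E.S, φ χ + ∑ χ ∈ F.S, φ χ + ∑ χ ∈ D.S, φ χ + ∑ χ ∈ R, φ χ := by
    intro M _ φ
    rw [← Finset.sum_add_sum_compl (insert (triv G) (E.S ∪ F.S ∪ D.S)) φ, ← hR,
      Finset.sum_insert (by simp [E.one_not_mem, F.one_not_mem, D.one_not_mem]),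
      Finset.sum_union (Finset.disjoint_union_left.2 ⟨hED, hFD⟩), Finset.sum_union hEF]
    abel
  set T := R.filter fun χ => E.z χ ≠ 0 ∨ F.z χ ≠ 0 ∨ D.z χ ≠ 0 with hT
  have hTm : ∀ χ ∈ T, χ ∈ R := fun χ hχ => (Finset.mem_filter.1 hχ).1
  have hsumT : ∀ φ : IrrCharacter G → ℤ, (∀ χ, E.z χ = 0 → F.z χ = 0 → D.z χ = 0 → φ χ = 0) →
      ∑ χ ∈ R, φ χ = ∑ χ ∈ T, φ χ := fun φ hφ =>
    (Finset.sum_subset (Finset.filter_subset _ _) fun χ hχ hn => by
      have : ¬ (E.z χ ≠ 0 ∨ F.z χ ≠ 0 ∨ D.z χ ≠ 0) := fun h => hn (Finset.mem_filter.2 ⟨hχ, h⟩)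
      push Not at this
      exact hφ χ this.1 this.2.1 this.2.2).symm
  -- the three norms
  have hnorm : ∀ {A : Subgroup G} {e w : ℕ} (P : Fam A e w),
      1 + (∑ χ ∈ E.S, if χ ∈ P.S then 0 else P.z χ ^ 2) + (∑ χ ∈ F.S, if χ ∈ P.S then 0 else P.z χ ^ 2)
        + (∑ χ ∈ D.S, if χ ∈ P.S then 0 else P.z χ ^ 2) + ∑ χ ∈ R, (if χ ∈ P.S then 0 else P.z χ ^ 2)
        ≤ (e : ℤ) := by
    intro A e w P
    have h := hsplit (fun χ => if χ ∈ P.S then (0 : ℤ) else P.z χ ^ 2)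
    simp only [if_neg P.one_not_mem, P.z_one, one_pow] at h
    rw [← h]
    refine le_trans (le_of_eq ?_) P.norm
    rw [← Finset.sum_add_sum_compl P.S, Finset.sum_eq_zero (s := P.S) fun χ hχ => if_pos hχ, zero_add]
    exact Finset.sum_congr rfl fun χ hχ => if_neg (Finset.mem_compl.1 hχ)
  have hq1 : ∑ χ ∈ T, E.z χ ^ 2 + w₂ * u12 ^ 2 + w₃ * u13 ^ 2 ≤ 1 := by
    have h := hnorm E
    rw [Finset.sum_eq_zero (s := E.S) fun χ hχ => if_pos hχ,
      Finset.sum_congr rfl (s₁ := F.S) (g := fun _ => u12 ^ 2) fun χ hχ => by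
        rw [if_neg (Finset.disjoint_right.1 hEF hχ), h12 χ hχ],
      Finset.sum_congr rfl (s₁ := D.S) (g := fun _ => u13 ^ 2) fun χ hχ => by
        rw [if_neg (Finset.disjoint_right.1 hED hχ), h13 χ hχ],
      Finset.sum_congr rfl (s₁ := R) (g := fun χ => E.z χ ^ 2) fun χ hχ => if_neg ((hRm χ).1 hχ).2.1,
      hsumT (fun χ => E.z χ ^ 2) fun χ a _ _ => by rw [a]; rfl,
      Finset.sum_const, Finset.sum_const, nsmul_eq_mul, nsmul_eq_mul, F.card, D.card] at h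
    push_cast at h
    linarith
  have hq2 : ∑ χ ∈ T, F.z χ ^ 2 + w₁ * u21 ^ 2 + w₃ * u23 ^ 2 ≤ 3 := by
    have h := hnorm F
    rw [Finset.sum_eq_zero (s := F.S) fun χ hχ => if_pos hχ,
      Finset.sum_congr rfl (s₁ := E.S) (g := fun _ => u21 ^ 2) fun χ hχ => by
        rw [if_neg (Finset.disjoint_left.1 hEF hχ), h21 χ hχ],
      Finset.sum_congr rfl (s₁ := D.S) (g := fun _ => u23 ^ 2) fun χ hχ => by
        rw [if_neg (Finset.disjoint_right.1 hFD hχ), h23 χ hχ],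
      Finset.sum_congr rfl (s₁ := R) (g := fun χ => F.z χ ^ 2) fun χ hχ => if_neg ((hRm χ).1 hχ).2.2.1,
      hsumT (fun χ => F.z χ ^ 2) fun χ _ a _ => by rw [a]; rfl,
      Finset.sum_const, Finset.sum_const, nsmul_eq_mul, nsmul_eq_mul, E.card, D.card] at h
    push_cast at h
    linarith
  have hq3 : ∑ χ ∈ T, D.z χ ^ 2 + w₁ * u31 ^ 2 + w₂ * u32 ^ 2 ≤ 3 := by
    have h := hnorm D
    rw [Finset.sum_eq_zero (s := D.S) fun χ hχ => if_pos hχ,
      Finset.sum_congr rfl (s₁ := E.S) (g := fun _ => u31 ^ 2) fun χ hχ => by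
        rw [if_neg (Finset.disjoint_left.1 hED hχ), h31 χ hχ],
      Finset.sum_congr rfl (s₁ := F.S) (g := fun _ => u32 ^ 2) fun χ hχ => by
        rw [if_neg (Finset.disjoint_left.1 hFD hχ), h32 χ hχ],
      Finset.sum_congr rfl (s₁ := R) (g := fun χ => D.z χ ^ 2) fun χ hχ => if_neg ((hRm χ).1 hχ).2.2.2,
      hsumT (fun χ => D.z χ ^ 2) fun χ _ _ a => by rw [a]; rfl,
      Finset.sum_const, Finset.sum_const, nsmul_eq_mul, nsmul_eq_mul, E.card, F.card] at h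
    push_cast at h
    linarith
  have o12 := E.orth F D H.cop₁₂ c1 c2 R h21 h12 h13 h23 (fun φ => hsplit φ) hEF hED hFD
    (fun χ h => ((hRm χ).1 h).2.1) (fun χ h => ((hRm χ).1 h).2.2.1)
  have o13 := E.orth D F H.cop₁₃ c1 c3 R h31 h13 h12 h32
    (fun φ => by rw [hsplit φ]; abel) hED hEF hFD.symm
    (fun χ h => ((hRm χ).1 h).2.1) (fun χ h => ((hRm χ).1 h).2.2.2)
  have o23 := F.orth D E H.cop₂₃ c2 c3 R h32 h23 h21 h31
    (fun φ => by rw [hsplit φ]; abel) hFD hEF.symm hED.symm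
    (fun χ h => ((hRm χ).1 h).2.2.1) (fun χ h => ((hRm χ).1 h).2.2.2)
  rw [hsumT (fun χ => E.z χ * F.z χ) fun χ a _ _ => by rw [a, zero_mul]] at o12
  rw [hsumT (fun χ => E.z χ * D.z χ) fun χ a _ _ => by rw [a, zero_mul]] at o13
  rw [hsumT (fun χ => F.z χ * D.z χ) fun χ _ a _ => by rw [a, zero_mul]] at o23
  have hcard := budget T E.z F.z D.z w₁ w₂ w₃ E.σ F.σ D.σ u12 u13 u21 u23 u31 u32 v1 v2 v3
    (fun χ hχ => (Finset.mem_filter.1 hχ).2) hq1 hq2 hq3 (by linarith) (by linarith) (by linarith)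
  refine ⟨R \ T, ?_, fun χ hχ => ?_⟩
  · have h := hsplit (fun _ => (1 : ℕ))
    simp only [Finset.sum_const, smul_eq_mul, mul_one, Finset.card_univ, E.card, F.card, D.card] at h
    rw [h, Finset.card_sdiff_of_subset (Finset.filter_subset _ _)]
    have := Finset.card_le_card (Finset.filter_subset (fun χ => E.z χ ≠ 0 ∨ F.z χ ≠ 0 ∨ D.z χ ≠ 0) R)
    rw [← hT] at this ⊢
    omega
  · obtain ⟨hχR, hχT⟩ := Finset.mem_sdiff.1 hχ
    have h0 : ¬ (E.z χ ≠ 0 ∨ F.z χ ≠ 0 ∨ D.z χ ≠ 0) := fun h => hχT (Finset.mem_filter.2 ⟨hχR, h⟩)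
    push Not at h0
    obtain ⟨-, nE, nF, nD⟩ := (hRm χ).1 hχR
    have dE := dvd_deg_of_vanish A₁ (χ := χ) fun k hk hk1 => by rw [E.zval χ nE k hk hk1, h0.1, Int.cast_zero]
    have dF := dvd_deg_of_vanish A₂ (χ := χ) fun k hk hk1 => by rw [F.zval χ nF k hk hk1, h0.2.1, Int.cast_zero]
    have dD := dvd_deg_of_vanish A₃ (χ := χ) fun k hk hk1 => by rw [D.zval χ nD k hk hk1, h0.2.2, Int.cast_zero]
    exact Nat.Coprime.mul_dvd_of_dvd_of_dvd (Nat.Coprime.mul_left H.cop₁₃ H.cop₂₃)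
      (Nat.Coprime.mul_dvd_of_dvd_of_dvd H.cop₁₂ dE dF) dD

end Cfsg.Agent.Lie.ThreeCC
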