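import Cfsg.Agent.Lib.Lie.ThreeCC.Setup

/-!
# A subgroup that is the centralizer of each of its non-identity elements
-/

set_option autoImplicit false
set_option linter.unusedSectionVars false
set_option linter.style.haveILetI false

namespace Cfsg.Agent.Lie.ThreeCC

open Subgroup
open scoped Pointwise

universe u

variable {G : Type u} [Group G] {A B : Subgroup G} {e f : ℕ}

theorem CCSub.comm (h : CCSub A e) : ∀ x ∈ A, ∀ y ∈ A, x * y = y * x := by
  intro x hx y hy
  by_cases hy1 : y = 1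
  · rw [hy1, mul_one, one_mul]
  · exact mem_centralizer_singleton_iff.1 ((h.cent y hy hy1).ge hx)

theorem CCSub.mem_of_commute (h : CCSub A e) {a x : G} (ha : a ∈ A) (ha1 : a ≠ 1)
    (hc : x * a = a * x) : x ∈ A :=
  (h.cent a ha ha1).le (mem_centralizer_singleton_iff.2 hc)

theorem CCSub.mem_normalizer (h : CCSub A e) {g k : G} (hk : k ∈ A) (hk1 : k ≠ 1)
    (hgk : g * k * g⁻¹ ∈ A) : g ∈ normalizer (A : Set G) := by
  have hgk1 : g * k * g⁻¹ ≠ 1 := fun e => hk1 (conj_eq_one_iff.1 e)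
  refine Subgroup.mem_normalizer_iff.2 fun y => ⟨fun hy => h.mem_of_commute hgk hgk1 ?_, fun hy => h.mem_of_commute hk hk1 ?_⟩
  · calc g * y * g⁻¹ * (g * k * g⁻¹) = g * (y * k) * g⁻¹ := by group
      _ = g * (k * y) * g⁻¹ := by rw [h.comm y hy k hk]
      _ = g * k * g⁻¹ * (g * y * g⁻¹) := by group
  · have e1 := h.comm _ hy _ hgk
    calc y * k = g⁻¹ * (g * y * g⁻¹ * (g * k * g⁻¹)) * g := by group
      _ = g⁻¹ * (g * k * g⁻¹ * (g * y * g⁻¹)) * g := by rw [e1]
      _ = k * y := by group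

theorem CCSub.ti (h : CCSub A e) :
    ∀ g : G, g ∉ normalizer (A : Set G) → ∀ k ∈ A, g * k * g⁻¹ ∈ A → k = 1 := by
  intro g hg k hk hgk
  by_contra hk1
  exact hg (h.mem_normalizer hk hk1 hgk)

theorem CCSub.index_normal (h : CCSub A e) : (A.subgroupOf (normalizer (A : Set G))).index = e := h.idx

theorem CCSub.card_normalizer (h : CCSub A e) :
    Nat.card (normalizer (A : Set G)) = e * Nat.card A := by
  rw [← (A.subgroupOf (normalizer (A : Set G))).index_mul_card, h.index_normal,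
    Nat.card_congr (subgroupOfEquivOfLe le_normalizer).toEquiv]

/-- The non-identity elements of `A`. -/
abbrev Sharp (A : Subgroup G) : Type u := {a : G // a ∈ A ∧ a ≠ 1}

instance sharpAction (A : Subgroup G) : MulAction (normalizer (A : Set G)) (Sharp A) where
  smul n a := ⟨(n : G) * a.1 * (n : G)⁻¹, (Subgroup.mem_normalizer_iff.1 n.2 a.1).1 a.2.1,
    fun e => a.2.2 (conj_eq_one_iff.1 e)⟩
  one_smul a := Subtype.ext (by show (1 : G) * a.1 * (1 : G)⁻¹ = a.1; group)
  mul_smul m n a := Subtype.ext (by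
    show (m : G) * n * a.1 * ((m : G) * n)⁻¹ = m * (n * a.1 * (n : G)⁻¹) * (m : G)⁻¹
    group)

theorem sharp_smul_val (A : Subgroup G) (n : normalizer (A : Set G)) (a : Sharp A) :
    (n • a).1 = (n : G) * a.1 * (n : G)⁻¹ := rfl

theorem CCSub.stabilizer_eq (h : CCSub A e) (a : Sharp A) :
    MulAction.stabilizer (normalizer (A : Set G)) a = A.subgroupOf (normalizer (A : Set G)) := by
  ext n
  rw [MulAction.mem_stabilizer_iff, mem_subgroupOf]
  constructor
  · intro hn
    have h1 : (n : G) * a.1 * (n : G)⁻¹ = a.1 := congrArg Subtype.val hn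
    exact h.mem_of_commute a.2.1 a.2.2 (mul_inv_eq_iff_eq_mul.1 h1)
  · intro hn
    exact Subtype.ext (mul_inv_eq_iff_eq_mul.2 (h.comm _ hn _ a.2.1))

variable [Finite G]

theorem CCSub.card_orbit (h : CCSub A e) (a : Sharp A) :
    Nat.card (MulAction.orbit (normalizer (A : Set G)) a) = e := by
  rw [Nat.card_coe_set_eq, ← MulAction.index_stabilizer, h.stabilizer_eq, h.index_normal]

theorem card_sharp (A : Subgroup G) : Nat.card (Sharp A) + 1 = Nat.card A := by
  classical
  haveI := Fintype.ofFinite A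
  rw [Nat.card_congr (show Sharp A ≃ {a : A // a ≠ 1} from
    { toFun := fun a => ⟨⟨a.1, a.2.1⟩, fun e => a.2.2 (congrArg Subtype.val e)⟩
      invFun := fun a => ⟨a.1.1, a.1.2, fun e => a.2 (Subtype.ext e)⟩
      left_inv := fun _ => rfl
      right_inv := fun _ => rfl })]
  rw [Nat.card_eq_fintype_card, Nat.card_eq_fintype_card, Fintype.card_subtype_compl,
    Fintype.card_subtype_eq]
  have := Fintype.card_pos (α := A)
  omega

theorem CCSub.orbits_mul (h : CCSub A e) :
    Nat.card (Quotient (MulAction.orbitRel (normalizer (A : Set G)) (Sharp A))) * e + 1 = Nat.card A := by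
  classical
  haveI := Fintype.ofFinite (Quotient (MulAction.orbitRel (normalizer (A : Set G)) (Sharp A)))
  rw [← card_sharp A]
  rw [Nat.card_congr (MulAction.selfEquivSigmaOrbits (normalizer (A : Set G)) (Sharp A)), Nat.card_sigma,
    Finset.sum_congr rfl (fun q _ => h.card_orbit _), Finset.sum_const, Finset.card_univ, smul_eq_mul,
    Nat.card_eq_fintype_card]

theorem CCSub.dvd_sub_one (h : CCSub A e) : e ∣ Nat.card A - 1 := by
  rw [← h.orbits_mul, Nat.add_sub_cancel]
  exact dvd_mul_left _ _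

theorem CCSub.odd (h : CCSub A e) (he : 2 ∣ e) : Odd (Nat.card A) := by
  obtain ⟨k, hk⟩ := he.trans h.dvd_sub_one
  exact ⟨k, by have := Nat.card_pos (α := A); omega⟩

/-- A prime divisor of the order of `A` has its full power in it. -/
theorem CCSub.exists_sylow_le (h : CCSub A e) {r : ℕ} [Fact r.Prime] (hr : r ∣ Nat.card A) :
    ∃ P : Sylow r G, (P : Subgroup G) ≤ A := by
  obtain ⟨a, ha⟩ := exists_prime_orderOf_dvd_card' r hr
  have haG : orderOf (a : G) = r := by rw [orderOf_coe, ha]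
  have ha1 : (a : G) ≠ 1 := fun e => (Fact.out : r.Prime).ne_one (by rw [← haG, e, orderOf_one])
  obtain ⟨P, hP⟩ := (IsPGroup.of_card (n := 1) (by rw [Nat.card_zpowers, haG, pow_one]) :
    IsPGroup r (zpowers (a : G))).exists_le_sylow
  have haP : (a : G) ∈ (P : Subgroup G) := hP (mem_zpowers _)
  haveI : Nontrivial (P : Subgroup G) := ⟨⟨_, haP⟩, 1, fun e => ha1 (congrArg Subtype.val e)⟩
  haveI : Nontrivial (center (P : Subgroup G)) := P.2.center_nontrivial
  obtain ⟨z, hz⟩ := exists_ne (1 : center (P : Subgroup G))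
  have hzA : ((z : (P : Subgroup G)) : G) ∈ A :=
    h.mem_of_commute a.2 ha1 (congrArg Subtype.val (mem_center_iff.1 z.2 ⟨a, haP⟩)).symm
  exact ⟨P, fun x hx => h.mem_of_commute hzA (fun e => hz (Subtype.ext (Subtype.ext e)))
    (congrArg Subtype.val (mem_center_iff.1 z.2 ⟨x, hx⟩))⟩

/-- `A` is a Hall subgroup. -/
theorem CCSub.hall (h : CCSub A e) : (Nat.card A).Coprime A.index := by
  refine Nat.coprime_of_dvd fun r hr hrA hri => ?_
  haveI := Fact.mk hr
  obtain ⟨P, hP⟩ := h.exists_sylow_le hrA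
  exact P.not_dvd_index (hri.trans (index_dvd_of_le hP))

theorem CCSub.exists_conj_mem_of_prime (h : CCSub A e) {r : ℕ} (hr : r.Prime) (hd : r ∣ Nat.card A)
    {x : G} (hx : orderOf x = r) : ∃ g : G, g * x * g⁻¹ ∈ A := by
  haveI := Fact.mk hr
  obtain ⟨P, hP⟩ := h.exists_sylow_le hd
  obtain ⟨Q, hQ⟩ := (IsPGroup.of_card (n := 1) (by rw [Nat.card_zpowers, hx, pow_one]) :
    IsPGroup r (zpowers x)).exists_le_sylow
  obtain ⟨g, hg⟩ := MulAction.exists_smul_eq G Q P
  refine ⟨g, hP ?_⟩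
  rw [← hg]
  show g * x * g⁻¹ ∈ (MulAut.conj g • (Q : Subgroup G) : Subgroup G)
  exact ⟨x, hQ (mem_zpowers x), rfl⟩

theorem CCSub.exists_conj_mem (h : CCSub A e) {x y : G} (hy : ¬ (orderOf y).Coprime (Nat.card A))
    (hc : x * y = y * x) : ∃ g : G, g * x * g⁻¹ ∈ A := by
  obtain ⟨r, hr, hry, hrA⟩ := Nat.Prime.not_coprime_iff_dvd.1 hy
  have hz : orderOf (y ^ (orderOf y / r)) = r := orderOf_pow_orderOf_div (orderOf_pos y).ne' hry
  have hc' : x * y ^ (orderOf y / r) = y ^ (orderOf y / r) * x := (Commute.pow_right hc _).eq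
  obtain ⟨g, hg⟩ := h.exists_conj_mem_of_prime hr hrA hz
  refine ⟨g, h.mem_of_commute hg
    (fun e1 => hr.ne_one (by rw [← hz, conj_eq_one_iff.1 e1, orderOf_one])) ?_⟩
  calc g * x * g⁻¹ * (g * y ^ (orderOf y / r) * g⁻¹) = g * (x * y ^ (orderOf y / r)) * g⁻¹ := by group
    _ = g * (y ^ (orderOf y / r) * x) * g⁻¹ := by rw [hc']
    _ = g * y ^ (orderOf y / r) * g⁻¹ * (g * x * g⁻¹) := by group

theorem CCSub.orderOf_dvd (h : CCSub A e) {x : G} (hx : ¬ (orderOf x).Coprime (Nat.card A)) :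
    orderOf x ∣ Nat.card A := by
  obtain ⟨g, hg⟩ := h.exists_conj_mem hx rfl
  rw [← MulEquiv.orderOf_eq (MulAut.conj g) x]
  exact Subgroup.orderOf_dvd_natCard A hg

/-- An element outside all conjugates of `A` has centralizer order prime to that of `A`. -/
theorem CCSub.coprime_centralizer (h : CCSub A e) {x : G}
    (hout : ∀ g : G, g * x * g⁻¹ ∉ A) : (Nat.card (centralizer ({x} : Set G))).Coprime (Nat.card A) := by
  refine Nat.coprime_of_dvd fun r hr hrC hrA => ?_
  haveI := Fact.mk hr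
  obtain ⟨y, hy⟩ := exists_prime_orderOf_dvd_card' r hrC
  have hy' : ¬ (orderOf (y : G)).Coprime (Nat.card A) := by
    rw [orderOf_coe, hy]
    exact fun hco => hr.coprime_iff_not_dvd.1 hco hrA
  obtain ⟨g, hg⟩ := h.exists_conj_mem hy' (mem_centralizer_singleton_iff.1 y.2).symm
  exact hout g hg

/-- Two such subgroups that are not conjugate have coprime orders. -/
theorem CCSub.coprime_of_not_conj (h : CCSub A e) (h' : CCSub B f)
    (hnc : ∀ g : G, A.map (MulAut.conj g).toMonoidHom ≠ B) : (Nat.card A).Coprime (Nat.card B) := by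
  refine Nat.coprime_of_dvd fun r hr hrA hrB => ?_
  haveI := Fact.mk hr
  obtain ⟨a, ha⟩ := exists_prime_orderOf_dvd_card' r hrA
  have haG : orderOf (a : G) = r := by rw [orderOf_coe, ha]
  have ha1 : (a : G) ≠ 1 := fun e => hr.ne_one (by rw [← haG, e, orderOf_one])
  obtain ⟨g, hg⟩ := h'.exists_conj_mem_of_prime hr hrB haG
  have hg1 : g * a * g⁻¹ ≠ 1 := fun e => ha1 (conj_eq_one_iff.1 e)
  refine hnc g (le_antisymm ?_ fun b hb => ⟨g⁻¹ * b * g, h.mem_of_commute a.2 ha1 ?_, by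
    show g * (g⁻¹ * b * g) * g⁻¹ = b; group⟩)
  · rintro _ ⟨x, hx, rfl⟩
    refine h'.mem_of_commute hg hg1 ?_
    show g * x * g⁻¹ * (g * a * g⁻¹) = g * a * g⁻¹ * (g * x * g⁻¹)
    rw [show g * x * g⁻¹ * (g * a * g⁻¹) = g * (x * a) * g⁻¹ by group, h.comm x hx a a.2]
    group
  · calc g⁻¹ * b * g * a = g⁻¹ * (b * (g * a * g⁻¹)) * g := by group
      _ = g⁻¹ * (g * a * g⁻¹ * b) * g := by rw [h'.comm b hb _ hg]
      _ = a * (g⁻¹ * b * g) := by group

/-- An involution of the normalizer inverts `A`. -/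
theorem CCSub.inverts (h : CCSub A e) {t : G} (ht : t ∈ normalizer (A : Set G)) (h2 : t * t = 1)
    (htA : t ∉ A) {a : G} (ha : a ∈ A) : t * a * t = a⁻¹ := by
  have hti : t⁻¹ = t := inv_eq_of_mul_eq_one_right h2
  have hta : t * a * t ∈ A := by
    have h1 := (Subgroup.mem_normalizer_iff.1 ht a).1 ha
    rwa [hti] at h1
  by_contra hne
  have hb : a * (t * a * t) ≠ 1 := fun e1 => hne (eq_inv_of_mul_eq_one_right e1)
  refine htA (h.mem_of_commute (A.mul_mem ha hta) hb ?_)
  calc t * (a * (t * a * t)) = (t * a * t) * a * t := by group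
    _ = a * (t * a * t) * t := by rw [h.comm _ hta a ha]

theorem CCSub.exists_involution (h : CCSub A e) (he : 2 ∣ e) :
    ∃ t ∈ normalizer (A : Set G), t * t = 1 ∧ t ∉ A := by
  haveI := Fact.mk Nat.prime_two
  have h2 : 2 ∣ Nat.card (normalizer (A : Set G)) := by
    rw [h.card_normalizer]; exact he.mul_right _
  obtain ⟨t, ht⟩ := exists_prime_orderOf_dvd_card' 2 h2
  refine ⟨t, t.2, ?_, fun hA => ?_⟩
  · have h1 : (t : normalizer (A : Set G)) ^ 2 = 1 := by rw [← ht]; exact pow_orderOf_eq_one t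
    rw [pow_two] at h1
    exact congrArg Subtype.val h1
  · have h1 : 2 ∣ Nat.card A := by
      rw [← ht, ← orderOf_coe]
      exact A.orderOf_dvd_natCard hA
    exact (h.odd he).not_two_dvd_nat h1

/-- Every element of `A` is inverted by at least `|A|` involutions. -/
theorem CCSub.card_inverters (h : CCSub A e) (he : 2 ∣ e) {a : G} (ha : a ∈ A) :
    Nat.card A ≤ Nat.card {t : G // orderOf t = 2 ∧ t * a * t = a⁻¹} := by
  obtain ⟨t, ht, h2, htA⟩ := h.exists_involution he
  refine Nat.card_le_card_of_injective (fun b : A => ⟨(b : G) * t, ?_, ?_⟩) ?_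
  · refine orderOf_eq_prime ?_ fun e1 => htA ?_
    · rw [pow_two, show (b : G) * t * (b * t) = b * (t * b * t) by group, h.inverts ht h2 htA b.2,
        mul_inv_cancel]
    · rw [eq_inv_of_mul_eq_one_right e1]; exact A.inv_mem b.2
  · rw [show (b : G) * t * a * (b * t) = b * (t * (a * b) * t) by group,
      h.inverts ht h2 htA (A.mul_mem ha b.2), mul_inv_rev, mul_inv_cancel_left]
  · exact fun b c hbc => Subtype.ext (mul_right_cancel (congrArg Subtype.val hbc : (b : G) * t = c * t))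

/-- An element of order four, for index four. -/
theorem CCSub.exists_four (h : CCSub A 4) (hA : 1 < Nat.card A) : ∃ y : G, orderOf y = 4 := by
  haveI := Fact.mk Nat.prime_two
  have h4 : 2 ^ 2 ∣ Nat.card (normalizer (A : Set G)) := by
    rw [h.card_normalizer]; exact dvd_mul_right _ _
  obtain ⟨S, hS⟩ := Sylow.exists_subgroup_card_pow_prime 2 h4
  by_contra! hno
  have hsq : ∀ s ∈ S, (s : G) * s = 1 := by
    intro s hs
    have hd : orderOf (s : G) ∣ 2 ^ 2 := by
      rw [orderOf_coe, ← hS]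
      exact S.orderOf_dvd_natCard hs
    obtain ⟨k, hk, hk'⟩ := (Nat.dvd_prime_pow Nat.prime_two).1 hd
    have hk2 : k ≠ 2 := fun e => hno (s : G) (by rw [hk', e]; rfl)
    have h1 : (s : G) ^ 2 = 1 := orderOf_dvd_iff_pow_eq_one.1 (by
      rw [hk']; exact dvd_trans (pow_dvd_pow 2 (show k ≤ 1 by omega)) (pow_one 2).dvd)
    rwa [pow_two] at h1
  have hout : ∀ s ∈ S, (s : G) ∈ A → s = 1 := by
    intro s hs hsA
    have h1 : orderOf (s : G) ∣ 2 := orderOf_dvd_of_pow_eq_one (by rw [pow_two]; exact hsq s hs)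
    rcases (Nat.dvd_prime Nat.prime_two).1 h1 with h2 | h2
    · exact Subtype.ext (orderOf_eq_one_iff.1 h2)
    · exact absurd (h2 ▸ A.orderOf_dvd_natCard hsA) (h.odd (by norm_num)).not_two_dvd_nat
  obtain ⟨a, ha1⟩ := @exists_ne A (Finite.one_lt_card_iff_nontrivial.1 hA) 1
  have hinv : ∀ s ∈ S, s ≠ 1 → (s : G) * a * s = (a : G)⁻¹ := fun s hs hs1 =>
    h.inverts s.2 (hsq s hs) (fun hA' => hs1 (hout s hs hA')) a.2
  haveI : Fintype S := Fintype.ofFinite S
  obtain ⟨s, hs⟩ := @exists_ne S (Finite.one_lt_card_iff_nontrivial.1 (by rw [hS]; norm_num)) 1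
  obtain ⟨t, ht, ht'⟩ : ∃ t : S, t ≠ 1 ∧ t ≠ s := by
    classical
    obtain ⟨t, ht⟩ := Finset.exists_mem_notMem_of_card_lt_card
      (s := ({1, s} : Finset S)) (t := Finset.univ) (by
        rw [Finset.card_univ, ← Nat.card_eq_fintype_card, hS]
        exact lt_of_le_of_lt Finset.card_le_two (by norm_num))
    exact ⟨t, fun e1 => ht.2 (by simp [e1]), fun e1 => ht.2 (by simp [e1])⟩
  have hs' : ((s : normalizer (A : Set G)) : G) * a * ((s : normalizer (A : Set G)) : G) = (a : G)⁻¹ :=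
    hinv s s.2 (fun e1 => hs (Subtype.ext e1))
  have ht'' : ((t : normalizer (A : Set G)) : G) * a * ((t : normalizer (A : Set G)) : G) = (a : G)⁻¹ :=
    hinv t t.2 (fun e1 => ht (Subtype.ext e1))
  set σ := ((s : normalizer (A : Set G)) : G) with hσ
  set τ := ((t : normalizer (A : Set G)) : G) with hτ
  have hσ2 : σ * σ = 1 := hsq s s.2
  have hτ2 : τ * τ = 1 := hsq t t.2
  have hc : σ * τ * (a : G) = a * (σ * τ) := by
    calc σ * τ * (a : G) = σ * (τ * a * τ) * τ⁻¹ := by group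
      _ = σ * (a : G)⁻¹ * τ⁻¹ := by rw [ht'']
      _ = σ * (σ * a * σ) * τ⁻¹ := by rw [hs']
      _ = (σ * σ) * a * σ * τ⁻¹ := by group
      _ = a * (σ * τ) := by rw [hσ2, inv_eq_of_mul_eq_one_right hτ2, one_mul, mul_assoc]
  have h1 := h.mem_of_commute a.2 (fun e1 => ha1 (Subtype.ext e1)) hc
  have h2 : ((s * t : S) : normalizer (A : Set G)) = 1 := hout _ (s * t).2 h1
  refine ht' (Subtype.ext (Subtype.ext ?_))
  show τ = σ
  have h3 : σ * τ = 1 := congrArg Subtype.val h2
  rw [eq_inv_of_mul_eq_one_right h3, inv_eq_of_mul_eq_one_right hσ2]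

end Cfsg.Agent.Lie.ThreeCC
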