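import Cfsg.Agent.Lib.Lie.ThreeCC.Classes
import Cfsg.Agent.Lib.Char.SquareRoots

/-!
# Involutions for three strongly self-centralizing subgroups
-/

set_option autoImplicit false
set_option linter.unusedSectionVars false
set_option linter.style.haveILetI false

namespace Cfsg.Agent.Lie.ThreeCC

open Subgroup Cfsg

universe u

variable {G : Type u} [Group G] {A A₁ A₂ A₃ : Subgroup G} {e : ℕ}

/-- The pairs of involutions whose product lies in `Meet A`. -/
def PairsIn (A : Subgroup G) : Set (G × G) :=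
  {ts | orderOf ts.1 = 2 ∧ orderOf ts.2 = 2 ∧ ts.1 * ts.2 ∈ Meet A}

variable [Finite G]

theorem CCSub.not_conj_mem_of_orderOf_two (h : CCSub A e) (he : 2 ∣ e) {t : G} (ht : orderOf t = 2)
    (g : G) : g * t * g⁻¹ ∉ A := by
  intro hg
  have h1 := A.orderOf_dvd_natCard hg
  rw [show g * t * g⁻¹ = MulAut.conj g t from rfl, MulEquiv.orderOf_eq, ht] at h1
  exact (h.odd he).not_two_dvd_nat h1

/-- The number of involutions is divisible by the product of the three orders. -/
theorem Hyp.dvd_invol (H : Hyp A₁ A₂ A₃) :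
    Nat.card A₁ * Nat.card A₂ * Nat.card A₃ ∣ Nat.card {t : G // orderOf t = 2} := by
  have h := H.dvd_ncard_outside {t : G | orderOf t = 2}
    (fun x (hx : orderOf x = 2) k => by
      show orderOf (MulAut.conj k x) = 2
      rw [MulEquiv.orderOf_eq]; exact hx)
    (fun x (hx : orderOf x = 2) => ⟨fun e1 => by simp [e1] at hx, fun g =>
      ⟨H.cc₁.not_conj_mem_of_orderOf_two (dvd_refl _) hx g,
        H.cc₂.not_conj_mem_of_orderOf_two (by norm_num) hx g,
        H.cc₃.not_conj_mem_of_orderOf_two (by norm_num) hx g⟩⟩)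
  rw [← Nat.card_coe_set_eq] at h
  exact h

theorem CCSub.pairs_lower (h : CCSub A e) (he : 2 ∣ e) {w : ℕ} (hw : Nat.card A = e * w + 1) :
    Nat.card G * w ≤ (PairsIn A).ncard := by
  obtain ⟨t, ht, h2, htA⟩ := h.exists_involution he
  have hcard : Nat.card G * w = Nat.card (((G ⧸ normalizer (A : Set G)) × Sharp A) × A) := by
    have hs : Nat.card (Sharp A) = e * w := by
      have := card_sharp A
      omega
    rw [Nat.card_prod, Nat.card_prod, ← (normalizer (A : Set G)).index_mul_card, h.card_normalizer, hs,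
      Subgroup.index]
    ring
  rw [hcard, ← Nat.card_coe_set_eq]
  have hinv : ∀ b ∈ A, orderOf (b * t) = 2 := fun b hb =>
    orderOf_eq_prime (by
      rw [pow_two, show b * t * (b * t) = b * (t * b * t) by group, h.inverts ht h2 htA hb, mul_inv_cancel])
      fun e1 => htA (by rw [eq_inv_of_mul_eq_one_right e1]; exact A.inv_mem hb)
  have hta : ∀ a ∈ A, ∀ b ∈ A, b * t * a = b * a⁻¹ * t := fun a ha b _ => by
    have := h.inverts ht h2 htA ha
    calc b * t * a = b * (t * a * t) * t⁻¹ := by group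
      _ = b * a⁻¹ * t := by rw [this, inv_eq_of_mul_eq_one_right h2]
  refine Nat.card_le_card_of_injective (fun qab : ((G ⧸ normalizer (A : Set G)) × Sharp A) × A =>
    (⟨(qab.1.1.out * ((qab.2 : G) * t) * qab.1.1.out⁻¹,
      qab.1.1.out * ((qab.2 : G) * t * qab.1.2.1) * qab.1.1.out⁻¹), ?_, ?_, ?_⟩ : (PairsIn A : Set (G × G)))) ?_
  · show orderOf (MulAut.conj qab.1.1.out _) = 2
    rw [MulEquiv.orderOf_eq]
    exact hinv _ qab.2.2
  · show orderOf (MulAut.conj qab.1.1.out _) = 2
    rw [MulEquiv.orderOf_eq, hta _ qab.1.2.2.1 _ qab.2.2]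
    exact hinv _ (A.mul_mem qab.2.2 (A.inv_mem qab.1.2.2.1))
  · have hprod : qab.1.1.out * ((qab.2 : G) * t) * qab.1.1.out⁻¹ *
        (qab.1.1.out * ((qab.2 : G) * t * qab.1.2.1) * qab.1.1.out⁻¹) =
        qab.1.1.out * qab.1.2.1 * qab.1.1.out⁻¹ := by
      have h3 : (qab.2 : G) * t * ((qab.2 : G) * t) = 1 := by
        rw [← pow_two, ← hinv _ qab.2.2]; exact pow_orderOf_eq_one _
      calc _ = qab.1.1.out * (((qab.2 : G) * t * ((qab.2 : G) * t)) * qab.1.2.1) * qab.1.1.out⁻¹ := by group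
        _ = _ := by rw [h3, one_mul]
    rw [hprod]
    exact meet_conj _ ⟨qab.1.2.2.2, 1, by simpa using qab.1.2.2.1⟩ _
  · rintro ⟨⟨q, a⟩, b⟩ ⟨⟨r, c⟩, d⟩ hqr
    have h1 : q.out * ((b : G) * t) * q.out⁻¹ = r.out * ((d : G) * t) * r.out⁻¹ :=
      congrArg (fun x : (PairsIn A : Set (G × G)) => x.1.1) hqr
    have h1' : q.out * ((b : G) * t * a.1) * q.out⁻¹ = r.out * ((d : G) * t * c.1) * r.out⁻¹ :=
      congrArg (fun x : (PairsIn A : Set (G × G)) => x.1.2) hqr
    have ha : q.out * a.1 * q.out⁻¹ = r.out * c.1 * r.out⁻¹ := by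
      calc q.out * a.1 * q.out⁻¹
          = (q.out * ((b : G) * t) * q.out⁻¹)⁻¹ * (q.out * ((b : G) * t * a.1) * q.out⁻¹) := by group
        _ = r.out * c.1 * r.out⁻¹ := by rw [h1, h1']; group
    have h2' : (r.out⁻¹ * q.out) * a.1 * (r.out⁻¹ * q.out)⁻¹ = c.1 := by
      calc (r.out⁻¹ * q.out) * a.1 * (r.out⁻¹ * q.out)⁻¹ = r.out⁻¹ * (q.out * a.1 * q.out⁻¹) * r.out := by group
        _ = c.1 := by rw [ha]; group
    have h3 := h.mem_normalizer a.2.1 a.2.2 (h2' ▸ c.2.1)
    obtain rfl : q = r := by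
      have h4 : (QuotientGroup.mk r.out : G ⧸ normalizer (A : Set G)) = QuotientGroup.mk q.out :=
        QuotientGroup.eq.2 h3
      rwa [QuotientGroup.out_eq', QuotientGroup.out_eq', eq_comm] at h4
    exact Prod.ext (Prod.ext rfl (Subtype.ext (mul_left_cancel (mul_right_cancel ha))))
      (Subtype.ext (mul_right_cancel (mul_left_cancel (mul_right_cancel h1))))

/-- Products of two involutions: the elements with conjugates in one of the subgroups. -/
theorem Hyp.pairs_bound (H : Hyp A₁ A₂ A₃) {w₁ w₂ w₃ : ℕ} (hw₁ : Nat.card A₁ = 2 * w₁ + 1)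
    (hw₂ : Nat.card A₂ = 4 * w₂ + 1) (hw₃ : Nat.card A₃ = 4 * w₃ + 1) :
    Nat.card G * (w₁ + w₂ + w₃) ≤ Nat.card {t : G // orderOf t = 2} ^ 2 := by
  have hdis : ∀ {A B : Subgroup G}, (Nat.card A).Coprime (Nat.card B) → Disjoint (PairsIn A) (PairsIn B) := by
    intro A B hc
    rw [Set.disjoint_left]
    exact fun x hA hB => Set.disjoint_left.1 (disjoint_meet hc) hA.2.2 hB.2.2
  have hle : PairsIn A₁ ∪ PairsIn A₂ ∪ PairsIn A₃ ⊆ ({t : G | orderOf t = 2} ×ˢ {t : G | orderOf t = 2}) := by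
    rintro x ((hx | hx) | hx) <;> exact ⟨hx.1, hx.2.1⟩
  have h := Set.ncard_le_ncard hle (Set.toFinite _)
  rw [Set.ncard_union_eq (Set.disjoint_union_left.2 ⟨hdis H.cop₁₃, hdis H.cop₂₃⟩),
    Set.ncard_union_eq (hdis H.cop₁₂), Set.ncard_prod, ← Nat.card_coe_set_eq {t : G | orderOf t = 2}] at h
  have e₁ := H.cc₁.pairs_lower (dvd_refl _) hw₁
  have e₂ := H.cc₂.pairs_lower (by norm_num) hw₂
  have e₃ := H.cc₃.pairs_lower (by norm_num) hw₃
  rw [pow_two, mul_add, mul_add]
  exact le_trans (by linarith) h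

open scoped Classical in
/-- The involution count against the degrees, with a set of characters of known degree taken out. -/
theorem invol_degree_bound {G : Type u} [Group G] [Fintype G] (N : ℕ) (hN : N ≠ 1)
    (Z : Finset (IrrCharacter G)) (hZ : ∀ χ ∈ Z, (χ : G → ℂ) 1 = N) :
    Nat.card {t : G // orderOf t = 2} + 1 ≤ Z.card * N + 1 ∨
      (Nat.card {t : G // orderOf t = 2} - Z.card * N) ^ 2 ≤
        (Fintype.card (IrrCharacter G) - 1 - Z.card) * (Nat.card G - Z.card * N ^ 2) := by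
  set I := Nat.card {t : G // orderOf t = 2}
  set e1 : IrrCharacter G := ⟨fun _ => 1, Char.isIrrCharacter_one⟩ with he1
  have he1Z : e1 ∉ Z := fun h => by
    have h1 := hZ e1 h
    simp only [he1] at h1
    exact hN (by exact_mod_cast h1.symm)
  set R := Finset.univ \ insert e1 Z with hR
  let d : IrrCharacter G → ℕ := fun χ => Char.deg (χ : G → ℂ)
  have hd : ∀ χ : IrrCharacter G, (χ : G → ℂ) 1 = d χ :=
    fun χ => Char.char_one_eq_deg (Char.irr_isCharacter χ.2)
  have hsplit : ∀ f : IrrCharacter G → ℂ, ∑ χ, f χ = f e1 + ∑ χ ∈ Z, f χ + ∑ χ ∈ R, f χ := fun f => by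
    rw [hR, ← Finset.sum_sdiff (Finset.subset_univ (insert e1 Z)), Finset.sum_insert he1Z]
    ring
  have hsq : 1 + Z.card * N ^ 2 + ∑ χ ∈ R, d χ ^ 2 = Nat.card G := by
    have h := Char.sum_sq_deg (G := G)
    rw [hsplit, Finset.sum_congr rfl (g := fun _ => (N : ℂ) ^ 2) (fun χ hχ => by rw [hZ χ hχ]),
      Finset.sum_const, nsmul_eq_mul, Finset.sum_congr rfl (g := fun χ => ((d χ ^ 2 : ℕ) : ℂ))
        (fun χ _ => by rw [hd χ, Nat.cast_pow]), ← Nat.cast_sum] at h
    simp only [he1, one_pow] at h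
    exact_mod_cast h
  have hsum : I ≤ Z.card * N + ∑ χ ∈ R, d χ := by
    have h := Char.sum_indicator_mul (1 : G)
    have hcard : (Finset.univ.filter fun u : G => u * u = 1).card = I + 1 := by
      have heq : (Finset.univ.filter fun u : G => u * u = 1) =
          insert (1 : G) (Finset.univ.filter fun u : G => orderOf u = 2) := by
        ext u
        simp only [Finset.mem_filter, Finset.mem_univ, true_and, Finset.mem_insert]
        constructor
        · intro hu
          by_cases h1 : u = 1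
          · exact Or.inl h1
          · exact Or.inr (orderOf_eq_prime (by rw [pow_two, hu]) h1)
        · rintro (rfl | hu)
          · exact one_mul 1
          · rw [← pow_two, ← hu]; exact pow_orderOf_eq_one u
      rw [heq, Finset.card_insert_of_notMem (by simp), ← Fintype.card_subtype, ← Nat.card_eq_fintype_card]
    rw [hcard] at h
    have hb : ∀ χ : IrrCharacter G, (Char.indicator2 (χ : G → ℂ) * (χ : G → ℂ) 1).re ≤ (d χ : ℝ) := fun χ => by
      rcases (Char.indicator_trichotomy χ.2).1 with h0 | h0 | h0 <;> simp [h0, hd χ]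
    have hre := congrArg Complex.re h
    rw [Complex.re_sum, Complex.natCast_re] at hre
    have hle : ((I + 1 : ℕ) : ℝ) ≤ (((1 + Z.card * N + ∑ χ ∈ R, d χ : ℕ)) : ℝ) := by
      rw [← hre]
      refine (Finset.sum_le_sum (g := fun χ => (d χ : ℝ)) fun χ _ => hb χ).trans ?_
      have := congrArg Complex.re (hsplit fun χ => (d χ : ℂ))
      simp only [Complex.re_sum, Complex.natCast_re, Complex.add_re] at this
      rw [this]
      have hd1 : d e1 = 1 := by
        have h5 := hd e1
        simp only [he1] at h5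
        exact_mod_cast h5.symm
      have hdZ : ∀ χ ∈ Z, (d χ : ℝ) = N := fun χ hχ => by
        have h5 := (hd χ).symm.trans (hZ χ hχ)
        exact_mod_cast h5
      rw [hd1, Finset.sum_congr rfl hdZ, Finset.sum_const, nsmul_eq_mul]
      push_cast
      ring_nf
      rfl
    have hle' : I + 1 ≤ 1 + Z.card * N + ∑ χ ∈ R, d χ := by exact_mod_cast hle
    omega
  refine Or.inr ?_
  have hRcard : R.card = Fintype.card (IrrCharacter G) - 1 - Z.card := by
    rw [hR, Finset.card_univ_sdiff, Finset.card_insert_of_notMem he1Z]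
    omega
  rw [← hRcard]
  calc (I - Z.card * N) ^ 2 ≤ (∑ χ ∈ R, d χ) ^ 2 := Nat.pow_le_pow_left (by omega) 2
    _ ≤ R.card * ∑ χ ∈ R, d χ ^ 2 := sq_sum_le_card_mul_sum_sq
    _ ≤ R.card * (Nat.card G - Z.card * N ^ 2) := Nat.mul_le_mul_left _ (by omega)

end Cfsg.Agent.Lie.ThreeCC
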