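import Cfsg.Agent.Lib.Lie.ThreeCC.Frame

/-!
An odd prime divisor of the group order, prime to the orders of the three subgroups, has at least
three classes of elements of that order once the possible automizer orders are small.
-/

set_option autoImplicit false
set_option linter.style.haveILetI false
set_option linter.unusedVariables false

namespace Cfsg.Agent.Lie.ThreeCC

universe u

theorem exists_three_prime_elements {G : Type u} [Group G] [Finite G] {A₁ A₂ A₃ : Subgroup G}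
    (H : Hyp A₁ A₂ A₃) {g₀ p : ℕ}
    (hg : Nat.card G = Nat.card A₁ * Nat.card A₂ * Nat.card A₃ * g₀)
    (hcop : g₀.Coprime (Nat.card A₁ * Nat.card A₂ * Nat.card A₃)) (hp : p.Prime) (h2 : 2 < p)
    (hdvd : p ∣ g₀)
    (hd : ∀ d, d ∣ p - 1 → (d ∣ g₀ ∨ d ∣ Nat.card A₁ ∨ d ∣ Nat.card A₂ ∨ d ∣ Nat.card A₃) →
      2 * d < p - 1) :
    ∃ x : Fin 3 → G, (∀ i, orderOf (x i) = p) ∧ ∀ i j, IsConj (x i) (x j) → i = j := by
  classical
  haveI := Fact.mk hp
  haveI : NeZero p := ⟨hp.ne_zero⟩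
  obtain ⟨x₀, hx₀⟩ := exists_prime_orderOf_dvd_card' (G := G) p (hg ▸ hdvd.mul_left _)
  have hmod : ∀ m, x₀ ^ (m % p) = x₀ ^ m := fun m => by
    have := pow_mod_orderOf x₀ m
    rwa [hx₀] at this
  have hxp : x₀ ^ p = 1 := by
    have := pow_orderOf_eq_one x₀
    rwa [hx₀] at this
  set P : (ZMod p)ˣ → G := fun k => x₀ ^ (k : ZMod p).val with hP
  have hP1 : P 1 = x₀ := by simp [hP, ZMod.val_one]
  have hPmul : ∀ a b : (ZMod p)ˣ, P (a * b) = P a ^ (b : ZMod p).val := fun a b => by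
    simp only [hP, Units.val_mul, ZMod.val_mul, ← pow_mul]
    exact hmod _
  have hPinj : ∀ a b : (ZMod p)ˣ, P a = P b → a = b := fun a b hab => by
    have := pow_injOn_Iio_orderOf (x := x₀) (hx₀.symm ▸ ZMod.val_lt _ :
      (a : ZMod p).val ∈ Set.Iio (orderOf x₀)) (hx₀.symm ▸ ZMod.val_lt _ :
      (b : ZMod p).val ∈ Set.Iio (orderOf x₀)) hab
    exact Units.ext (ZMod.val_injective p this)
  -- conjugation of one power to another scales the exponent
  have hscale : ∀ (g : G) (a b : (ZMod p)ˣ), g * P a * g⁻¹ = P b → ∀ c,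
      g * P (a * c) * g⁻¹ = P (b * c) := fun g a b h c => by
    rw [hPmul, hPmul, ← h, conj_pow]
  let S : Subgroup (ZMod p)ˣ :=
    { carrier := {k | ∃ g : G, g * x₀ * g⁻¹ = P k}
      one_mem' := ⟨1, by rw [one_mul, inv_one, mul_one, hP1]⟩
      mul_mem' := by
        rintro a b ⟨g, hga⟩ ⟨h, hhb⟩
        refine ⟨g * h, ?_⟩
        have := hscale g 1 a (by rw [hP1, hga]) b
        rw [one_mul, ← hhb] at this
        rw [← this]
        group
      inv_mem' := by
        rintro a ⟨g, hga⟩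
        refine ⟨g⁻¹, ?_⟩
        have := hscale g 1 a (by rw [hP1, hga]) a⁻¹
        rw [one_mul, mul_inv_cancel, hP1] at this
        calc g⁻¹ * x₀ * g⁻¹⁻¹ = g⁻¹ * (g * P a⁻¹ * g⁻¹) * g⁻¹⁻¹ := by rw [this]
          _ = P a⁻¹ := by group }
  obtain ⟨u, hu⟩ := IsCyclic.exists_ofOrder_eq_natCard (α := S)
  obtain ⟨w, hw⟩ := u.2
  have hpow : ∀ m : ℕ, w ^ m * x₀ * (w ^ m)⁻¹ = P ((u : (ZMod p)ˣ) ^ m) := by
    intro m
    induction m with
    | zero => simp [hP1]
    | succ m ih =>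
      have h1 := hscale w 1 u (by rw [hP1, hw]) ((u : (ZMod p)ˣ) ^ m)
      rw [one_mul, ← ih, ← pow_succ'] at h1
      rw [← h1]
      group
  have how : Nat.card S ∣ orderOf w := by
    rw [← hu, ← Subgroup.orderOf_coe]
    refine orderOf_dvd_of_pow_eq_one (hPinj _ _ ?_)
    rw [← hpow, pow_orderOf_eq_one, one_mul, inv_one, mul_one, hP1]
  have hcardU : Nat.card (ZMod p)ˣ = p - 1 := by
    rw [Nat.card_eq_fintype_card, ZMod.card_units]
  have hSp : Nat.card S ∣ p - 1 := hcardU ▸ Subgroup.card_subgroup_dvd_card S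
  have hsmall : 2 * Nat.card S < p - 1 := by
    refine hd _ hSp ?_
    by_cases h₁ : (orderOf w).Coprime (Nat.card A₁)
    · by_cases h₂ : (orderOf w).Coprime (Nat.card A₂)
      · by_cases h₃ : (orderOf w).Coprime (Nat.card A₃)
        · refine Or.inl (how.trans (((h₁.mul_right h₂).mul_right h₃).dvd_of_dvd_mul_left ?_))
          rw [← hg]
          exact orderOf_dvd_natCard w
        · exact Or.inr (Or.inr (Or.inr (how.trans (H.cc₃.orderOf_dvd h₃))))
      · exact Or.inr (Or.inr (Or.inl (how.trans (H.cc₂.orderOf_dvd h₂))))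
    · exact Or.inr (Or.inl (how.trans (H.cc₁.orderOf_dvd h₁)))
  have hindex : 3 ≤ Nat.card ((ZMod p)ˣ ⧸ S) := by
    by_contra hlt
    have h1 : Nat.card ((ZMod p)ˣ ⧸ S) * Nat.card S = p - 1 := hcardU ▸ S.index_mul_card
    have h3 : Nat.card ((ZMod p)ˣ ⧸ S) * Nat.card S ≤ 2 * Nat.card S :=
      Nat.mul_le_mul_right _ (by omega)
    omega
  obtain ⟨q⟩ : Nonempty (Fin 3 ↪ (ZMod p)ˣ ⧸ S) :=
    Function.Embedding.nonempty_of_card_le (by
      rw [Fintype.card_fin, ← Nat.card_eq_fintype_card]; exact hindex)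
  refine ⟨fun i => P (q i).out, fun i => ?_, fun i j hij => q.injective ?_⟩
  · refine orderOf_eq_prime ?_ fun (h1 : P (q i).out = 1) => ?_
    · show (x₀ ^ _) ^ p = 1
      rw [← pow_mul, mul_comm, pow_mul, hxp, one_pow]
    · have h1' : P (q i).out ^ (((q i).out⁻¹ : (ZMod p)ˣ) : ZMod p).val = 1 := by rw [h1, one_pow]
      rw [← hPmul, mul_inv_cancel, hP1] at h1'
      rw [h1', orderOf_one] at hx₀
      exact hp.ne_one hx₀.symm
  · obtain ⟨g, hg'⟩ := isConj_iff.1 hij
    have hmem : (q i).out⁻¹ * (q j).out ∈ S := by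
      refine ⟨g, ?_⟩
      have := hscale g _ _ hg' (q i).out⁻¹
      rwa [mul_inv_cancel, hP1, mul_comm (q j).out] at this
    rw [← QuotientGroup.out_eq' (q i), ← QuotientGroup.out_eq' (q j)]
    exact QuotientGroup.eq.2 hmem

end Cfsg.Agent.Lie.ThreeCC
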