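import Mathlib

/-!
# Three strongly self-centralizing subgroups

Common setup for the recognition of the Suzuki groups by three strongly self-centralizing
subgroups whose indices in their normalizers are `2`, `4`, `4`.
-/

set_option autoImplicit false

namespace Cfsg.Agent.Lie.ThreeCC

universe u

/-- A subgroup that is the centralizer of each of its non-identity elements, of index `e` in its
normalizer. -/
structure CCSub {G : Type u} [Group G] (A : Subgroup G) (e : ℕ) : Prop where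
  cent : ∀ a ∈ A, a ≠ 1 → Subgroup.centralizer ({a} : Set G) = A
  idx : A.relIndex (Subgroup.normalizer (A : Set G)) = e

/-- The configuration: three such subgroups, pairwise of coprime orders. -/
structure Hyp {G : Type u} [Group G] (A₁ A₂ A₃ : Subgroup G) : Prop where
  cc₁ : CCSub A₁ 2
  cc₂ : CCSub A₂ 4
  cc₃ : CCSub A₃ 4
  n₁ : 5 ≤ Nat.card A₁
  n₂ : 5 < Nat.card A₂
  n₃ : 5 < Nat.card A₃
  cop₁₂ : (Nat.card A₁).Coprime (Nat.card A₂)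
  cop₁₃ : (Nat.card A₁).Coprime (Nat.card A₃)
  cop₂₃ : (Nat.card A₂).Coprime (Nat.card A₃)

/-- The numerical conditions forced by an element of order twice an odd prime. -/
structure Num (w₁ w₂ w₃ g₀ j z : ℕ) : Prop where
  hw₁ : 2 ≤ w₁
  hw₂ : 2 ≤ w₂
  hw₃ : 2 ≤ w₃
  cop₁₂ : (2 * w₁ + 1).Coprime (4 * w₂ + 1)
  cop₁₃ : (2 * w₁ + 1).Coprime (4 * w₃ + 1)
  cop₂₃ : (4 * w₂ + 1).Coprime (4 * w₃ + 1)
  four : 4 ∣ g₀
  copg : g₀.Coprime ((2 * w₁ + 1) * (4 * w₂ + 1) * (4 * w₃ + 1))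
  hz : z = 1 ∨ z = 2
  lo : z * ((2 * w₁ + 1) * (4 * w₂ + 1) * (4 * w₃ + 1)) < g₀
  hi : g₀ ≤ 3 * ((2 * w₁ + 1) * (4 * w₂ + 1) * (4 * w₃ + 1))
  count : ∃ K : ℕ, g₀ * (2 * ((4 * w₂ + 1) * (4 * w₃ + 1)) + (2 * w₁ + 1) * (4 * w₃ + 1) +
      (2 * w₁ + 1) * (4 * w₂ + 1)) = 4 * (K * ((2 * w₁ + 1) * (4 * w₂ + 1) * (4 * w₃ + 1)) + 1)
  pairs : g₀ * (w₁ + w₂ + w₃) ≤ j ^ 2 * ((2 * w₁ + 1) * (4 * w₂ + 1) * (4 * w₃ + 1))
  degrees : j ≤ z ∨ (j - z) ^ 2 * ((2 * w₁ + 1) * (4 * w₂ + 1) * (4 * w₃ + 1)) ≤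
      (w₁ + w₂ + w₃ + 3) * (g₀ - z * ((2 * w₁ + 1) * (4 * w₂ + 1) * (4 * w₃ + 1)))

end Cfsg.Agent.Lie.ThreeCC
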